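import Mathlib
import Cfsg.Agent.PGroups.Basic

/-!
# 2-groups in which every element of order at most four is central
-/

set_option autoImplicit false
set_option linter.style.haveILetI false
set_option linter.unusedSectionVars false

namespace Cfsg.Lib.FourGen

universe u

variable {X : Type u} [Group X]

/-- every element of order at most four is central -/
def Om4 (X : Type u) [Group X] : Prop := ∀ x : X, x ^ 4 = 1 → ∀ y : X, x * y = y * x

lemma exists_pow_order_four (hX : IsPGroup 2 X) {x : X} (hx : x ^ 2 ≠ 1) :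
    ∃ j : ℕ, (x ^ 2 ^ j) ^ 4 = 1 ∧ (x ^ 2 ^ j) ^ 2 ≠ 1 ∧ (x ^ 4 ≠ 1 → 1 ≤ j) := by
  classical
  obtain ⟨k, hk⟩ := hX x
  have hex : ∃ j : ℕ, (x ^ 2 ^ j) ^ 4 = 1 := ⟨k, by rw [hk, one_pow]⟩
  refine ⟨Nat.find hex, Nat.find_spec hex, ?_, fun h4 => ?_⟩
  · intro h2
    rcases Nat.eq_zero_or_pos (Nat.find hex) with h0 | h0
    · rw [h0, pow_zero, pow_one] at h2; exact hx h2
    · refine Nat.find_min hex (show Nat.find hex - 1 < Nat.find hex by omega) ?_
      obtain ⟨i, hi⟩ : ∃ i, Nat.find hex = i + 1 := ⟨Nat.find hex - 1, by omega⟩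
      rw [hi, ← pow_mul, ← pow_succ] at h2
      rw [hi, Nat.add_sub_cancel, ← pow_mul, show 2 ^ i * 4 = 2 ^ (i + 1 + 1) by ring]
      exact h2
  · by_contra h0
    have := Nat.find_spec hex
    rw [show Nat.find hex = 0 by omega, pow_zero, pow_one] at this
    exact h4 this

lemma sq_eq (hX : IsPGroup 2 X) (h : Om4 X) {x y : X} (e : x * x = y * y) :
    (x⁻¹ * y) ^ 2 = 1 := by
  set z := x⁻¹ * y with hz
  by_contra hne
  have e' : (x * x)⁻¹ = (y * y)⁻¹ := by rw [e]
  have hyc : y * (x * x)⁻¹ = (x * x)⁻¹ * y := by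
    rw [e']; group
  have hinv : x⁻¹ * z * x = z⁻¹ := by
    refine eq_inv_of_mul_eq_one_right ?_
    calc z * (x⁻¹ * z * x) = x⁻¹ * (y * (x * x)⁻¹) * y * x := by rw [hz]; group
      _ = x⁻¹ * (x * x)⁻¹ * (y * y) * x := by rw [hyc]; group
      _ = 1 := by rw [← e]; group
  obtain ⟨j, h4, h2, -⟩ := exists_pow_order_four hX hne
  apply h2
  have hc : x⁻¹ * z ^ 2 ^ j * x = (z ^ 2 ^ j)⁻¹ := by
    have := conj_pow (i := 2 ^ j) (a := x⁻¹) (b := z)
    rw [inv_inv, hinv] at this
    rw [← this, inv_pow]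
  rw [mul_assoc, h _ h4 x, inv_mul_cancel_left] at hc
  rw [pow_two]
  exact mul_eq_one_iff_eq_inv.2 hc

lemma comm_sq_one (hX : IsPGroup 2 X) (h : Om4 X) {x : X} (hx : ∀ y, x * x * y = y * (x * x))
    (g : X) : (x⁻¹ * (g⁻¹ * x * g)) ^ 2 = 1 := by
  refine sq_eq hX h ?_
  calc x * x = g⁻¹ * (g * (x * x)) := by group
    _ = g⁻¹ * (x * x * g) := by rw [hx]
    _ = g⁻¹ * x * g * (g⁻¹ * x * g) := by group

/-- the subgroup of elements squaring to one -/
def omega1 (h : Om4 X) : Subgroup X where
  carrier := {x | x * x = 1}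
  one_mem' := mul_one 1
  mul_mem' {a b} ha hb := by
    have hc := h a (by rw [show (4 : ℕ) = 2 + 2 from rfl, pow_add, pow_two,
      show a * a = 1 from ha, one_mul]) b
    change a * b * (a * b) = 1
    calc a * b * (a * b) = a * (b * a) * b := by group
      _ = (a * a) * (b * b) := by rw [← hc]; group
      _ = 1 := by rw [show a * a = 1 from ha, show b * b = 1 from hb, one_mul]
  inv_mem' {a} ha := by
    change a⁻¹ * a⁻¹ = 1
    rw [← mul_inv_rev, show a * a = 1 from ha, inv_one]

lemma omega1_central (h : Om4 X) {a : X} (ha : a ∈ omega1 h) (y : X) : a * y = y * a :=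
  h a (by rw [show (4 : ℕ) = 2 + 2 from rfl, pow_add, pow_two, show a * a = 1 from ha, one_mul]) y

/-- an index two subgroup avoiding a given element outside a subgroup with all squares -/
theorem exists_index_two_avoid [Finite X] {N : Subgroup X} (hsq : ∀ x, x * x ∈ N) {o : X}
    (hoN : o ∉ N) : ∃ M : Subgroup X, N ≤ M ∧ o ∉ M ∧ M.Normal ∧ M.index = 2 := by
  obtain ⟨M, ⟨hNM, hoM⟩, hmax⟩ := Set.Finite.exists_maximalFor (id : Subgroup X → Subgroup X)
    {M | N ≤ M ∧ o ∉ M} (Set.toFinite _) ⟨N, le_rfl, hoN⟩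
  have hMsq : ∀ x, x * x ∈ M := fun x => hNM (hsq x)
  haveI hMn : M.Normal := ⟨fun a ha g => by
    have : g * a * g⁻¹ = (g * g) * ((g⁻¹ * a) * (g⁻¹ * a)) * (a⁻¹) := by group
    rw [this]
    exact mul_mem (mul_mem (hMsq g) (hMsq _)) (inv_mem ha)⟩
  have hsplit : ∀ x, x ∈ M ∨ x * o⁻¹ ∈ M := by
    intro x
    by_contra hc
    push Not at hc
    have hlt : M < M ⊔ Subgroup.zpowers x := lt_of_le_of_ne le_sup_left fun e =>
      hc.1 (e ▸ (le_sup_right : Subgroup.zpowers x ≤ _) (Subgroup.mem_zpowers x))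
    have ho : o ∈ M ⊔ Subgroup.zpowers x := by
      by_contra ho
      exact hlt.not_ge (hmax ⟨hNM.trans le_sup_left, ho⟩ hlt.le)
    obtain ⟨m, hm, z, hz, e⟩ := Subgroup.mem_sup_of_normal_left.1 ho
    obtain ⟨i, rfl⟩ := Subgroup.mem_zpowers_iff.1 hz
    rcases Int.even_or_odd i with ⟨j, rfl⟩ | ⟨j, rfl⟩
    · exact hoM (e ▸ mul_mem hm (by rw [zpow_add]; exact hMsq _))
    · apply hc.2
      have h1 : x * o⁻¹ = x * (x ^ (2 * j + 1))⁻¹ * m⁻¹ := by rw [← e]; group
      rw [h1]
      refine mul_mem ?_ (inv_mem hm)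
      rw [show x * (x ^ (2 * j + 1))⁻¹ = (x ^ (j + j))⁻¹ by group, zpow_add]
      exact inv_mem (hMsq _)
  have hidx : M.index = 2 := by
    rw [Subgroup.index_eq_two_iff]
    refine ⟨o⁻¹, fun x => ?_⟩
    rcases hsplit x with hx | hx
    · exact Or.inr ⟨hx, fun e => hoM (inv_mem_iff.1 (by
        simpa using mul_mem (inv_mem hx) e))⟩
    · exact Or.inl ⟨hx, fun e => hoM (inv_mem_iff.1 (by
        simpa using mul_mem (inv_mem e) hx))⟩
  exact ⟨M, hNM, hoM, hMn, hidx⟩

/-- index bound for subgroups containing all squares -/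
theorem index_le : ∀ (n : ℕ) (X : Type u) [Group X] [Finite X], Nat.card X = n → IsPGroup 2 X →
    Om4 X → ∀ (N : Subgroup X) [N.Normal], (∀ x : X, x * x ∈ N) →
      N.index ≤ Set.ncard {x : X | x * x = (1 : X)} := by
  intro n
  induction n using Nat.strong_induction_on with
  | _ n ih =>
    intro X _ _ hn hX h N _ hsq
    haveI : Fact (Nat.Prime 2) := ⟨Nat.prime_two⟩
    set O := omega1 h
    have hOset : {x : X | x * x = 1} = (O : Set X) := rfl
    rw [hOset, ← Nat.card_coe_set_eq]
    by_cases hON : O ≤ N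
    · by_cases hX1 : Subsingleton X
      · rw [N.index_eq_one.2 (Subsingleton.elim _ _)]
        exact Nat.card_pos
      haveI : Nontrivial X := not_subsingleton_iff_nontrivial.1 hX1
      obtain ⟨w, hw⟩ := exists_prime_orderOf_dvd_card' (G := X) 2 (by
        obtain ⟨k, hk⟩ := IsPGroup.iff_card.1 hX
        have := Finite.one_lt_card (α := X)
        rw [hk] at this ⊢
        exact dvd_pow_self 2 (fun h0 => by simp [h0] at this))
      have hwO : w ∈ O := by
        change w * w = 1
        rw [← pow_two, ← hw, pow_orderOf_eq_one]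
      haveI : O.Normal := ⟨fun a ha g => by rw [← omega1_central h ha g]; simpa using ha⟩
      set π := QuotientGroup.mk' O
      have hlt : Nat.card (X ⧸ O) < n := by
        have h1 := O.card_eq_card_quotient_mul_card_subgroup
        have h2 : 1 < Nat.card O := by
          haveI : Nontrivial O := ⟨⟨⟨w, hwO⟩, 1, fun e => by
            rw [show w = 1 from congrArg Subtype.val e, orderOf_one] at hw; omega⟩⟩
          exact Finite.one_lt_card
        have h3 : 0 < Nat.card (X ⧸ O) := Nat.card_pos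
        rw [← hn, h1]
        exact lt_mul_of_one_lt_right h3 h2
      have hq : Om4 (X ⧸ O) := by
        intro q hq4 r
        obtain ⟨x, rfl⟩ := QuotientGroup.mk'_surjective O q
        obtain ⟨y, rfl⟩ := QuotientGroup.mk'_surjective O r
        have hx4 : x ^ 4 * x ^ 4 = 1 := by
          have : x ^ 4 ∈ O := (QuotientGroup.eq_one_iff _).1 (by
            rw [← QuotientGroup.mk'_apply, map_pow]; exact hq4)
          exact this
        have hc := comm_sq_one hX h (x := x) (fun z => h (x * x) (by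
          rw [← pow_two, ← pow_mul, show 2 * 4 = 4 + 4 from rfl, pow_add]; exact hx4) z) y
        rw [← map_mul, ← map_mul]
        refine QuotientGroup.eq.2 ?_
        have hmem : x⁻¹ * (y⁻¹ * x * y) ∈ O := by
          change _ * _ = 1
          rw [← pow_two]; exact hc
        have : (x * y)⁻¹ * (y * x) = (x⁻¹ * (y⁻¹ * x * y))⁻¹ * 1 := by
          have hcen := omega1_central h hmem y
          calc (x * y)⁻¹ * (y * x) = y⁻¹ * x⁻¹ * y * x := by group
            _ = (x⁻¹ * (y⁻¹ * x * y))⁻¹ * 1 := by group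
        rw [this, mul_one]
        exact inv_mem hmem
      haveI : (N.map π).Normal := Subgroup.Normal.map inferInstance π (QuotientGroup.mk'_surjective O)
      have h1 := ih _ hlt (X ⧸ O) rfl (hX.to_quotient O) hq (N.map π) (fun q => by
        obtain ⟨x, rfl⟩ := QuotientGroup.mk'_surjective O q
        exact ⟨x * x, hsq x, map_mul π x x⟩)
      rw [Subgroup.index_map_eq N (QuotientGroup.mk'_surjective O)
        (by rw [QuotientGroup.ker_mk']; exact hON)] at h1
      refine h1.trans ?_
      rw [← Nat.card_coe_set_eq]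
      have sq_mem : ∀ q : {q : X ⧸ O | q * q = 1}, q.1.out * q.1.out ∈ O := fun q => by
        apply (QuotientGroup.eq_one_iff _).1
        rw [QuotientGroup.mk_mul, QuotientGroup.out_eq']
        exact q.2
      refine Nat.card_le_card_of_injective
        (fun q => (⟨q.1.out * q.1.out, sq_mem q⟩ : (O : Set X))) ?_
      intro q r e
      have e' : q.1.out * q.1.out = r.1.out * r.1.out := congrArg Subtype.val e
      have := sq_eq hX h e'
      apply Subtype.ext
      rw [← QuotientGroup.out_eq' q.1, ← QuotientGroup.out_eq' r.1]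
      refine QuotientGroup.eq.2 ?_
      change _ * _ = 1
      rw [← pow_two]; exact this
    · obtain ⟨o, hoO, hoN⟩ : ∃ o ∈ O, o ∉ N := SetLike.not_le_iff_exists.1 hON
      obtain ⟨M, hNM, hoM, hMn, hidx⟩ := exists_index_two_avoid hsq hoN
      have hMsq : ∀ x, x * x ∈ M := fun x => hNM (hsq x)
      have hlt : Nat.card M < n := by
        have := M.card_mul_index
        rw [hidx, hn] at this
        have : 0 < Nat.card M := Nat.card_pos
        omega
      have hM4 : Om4 M := fun x hx y => Subtype.ext (h x.1 (congrArg Subtype.val hx) y.1)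
      have h1 := ih _ hlt M rfl (hX.to_subgroup M) hM4 (N.subgroupOf M)
        (fun x => Subgroup.mem_subgroupOf.2 (hsq x.1))
      have h2 := Subgroup.relIndex_mul_index hNM
      rw [← h2, hidx]
      have h4 : {x : M | x * x = 1}.ncard = Nat.card ↥(O ⊓ M) := by
        rw [← Nat.card_coe_set_eq]
        exact Nat.card_congr
          { toFun := fun x => ⟨x.1.1, congrArg Subtype.val x.2, x.1.2⟩
            invFun := fun x => ⟨⟨x.1, x.2.2⟩, Subtype.ext x.2.1⟩
            left_inv := fun _ => rfl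
            right_inv := fun _ => rfl }
      rw [h4] at h1
      have h5 : Nat.card ↥(O ⊓ M) * 2 ≤ Nat.card (O : Set X) := by
        let f : ↥(O ⊓ M) × Bool → (O : Set X) := fun p =>
          ⟨if p.2 then p.1.1 * o else p.1.1, by
            split_ifs
            · exact mul_mem p.1.2.1 hoO
            · exact p.1.2.1⟩
        have := Nat.card_le_card_of_injective f (by
          rintro ⟨⟨a, ha⟩, ba⟩ ⟨⟨b, hb⟩, bb⟩ e
          have e' := congrArg Subtype.val e
          cases ba <;> cases bb <;> simp [f] at e'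
          · subst e'; rfl
          · exact absurd (by
              rw [e'] at ha
              simpa using M.mul_mem (M.inv_mem hb.2) ha.2) hoM
          · exact absurd (by
              rw [← e'] at hb
              simpa using M.mul_mem (M.inv_mem ha.2) hb.2) hoM
          · subst e'; rfl)
        simpa [Nat.card_prod] using this
      exact (Nat.mul_le_mul_right 2 h1).trans h5

/-- subgroup form of the index bound -/
lemma relIndex_le [Finite X] (hX : IsPGroup 2 X) {K N : Subgroup X}
    (hK : ∀ x ∈ K, x ^ 4 = 1 → ∀ y ∈ K, x * y = y * x)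
    (hn : K ≤ Subgroup.normalizer (N : Set X)) (hsq : ∀ x ∈ K, x * x ∈ N) :
    N.relIndex K ≤ {x : X | x ∈ K ∧ x * x = 1}.ncard := by
  haveI : (N.subgroupOf K).Normal := Subgroup.normal_subgroupOf_of_le_normalizer hn
  refine (index_le _ K rfl (hX.to_subgroup K)
    (fun x hx y => Subtype.ext (hK x.1 x.2 (congrArg Subtype.val hx) y.1 y.2)) (N.subgroupOf K)
    (fun x => Subgroup.mem_subgroupOf.2 (hsq x.1 x.2))).trans (le_of_eq ?_)
  rw [← Set.ncard_image_of_injective _ Subtype.val_injective]
  congr 1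
  ext x
  exact ⟨by rintro ⟨y, hy, rfl⟩; exact ⟨y.2, congrArg Subtype.val hy⟩,
    fun hx => ⟨⟨x, hx.1⟩, Subtype.ext hx.2, rfl⟩⟩

/-- one involution and elements of order four central: cyclic -/
lemma isCyclic_of_omega_le_two [Finite X] (hX : IsPGroup 2 X) (h : Om4 X)
    (hcard : {x : X | x * x = 1}.ncard ≤ 2) : IsCyclic X := by
  haveI : Fact (Nat.Prime 2) := ⟨Nat.prime_two⟩
  have hexp : ∀ x : X, x * x ∈ frattini X := fun x => by
    rw [← pow_two]; exact Cfsg.Lib.PGroups.pow_mem_frattini hX x
  have hidx := (index_le _ X rfl hX h (frattini X) hexp).trans hcard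
  haveI : IsCyclic (X ⧸ frattini X) := by
    rw [Subgroup.index_eq_card] at hidx
    have hpos : 0 < Nat.card (X ⧸ frattini X) := Nat.card_pos
    rcases (show Nat.card (X ⧸ frattini X) = 1 ∨ Nat.card (X ⧸ frattini X) = 2 by omega) with e | e
    · haveI := (Nat.card_eq_one_iff_unique.1 e).1; infer_instance
    · exact isCyclic_of_prime_card (p := 2) e
  exact Cfsg.Lib.PGroups.isCyclic_of_isCyclic_quotient_frattini

end Cfsg.Lib.FourGen
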