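import Mathlib
import Cfsg.Agent.PGroups.FourGenerator.OmegaCentral

/-!
# Four-generator theorem: Alperin's lemma and the counting identity

`A` is maximal among the normal abelian subgroups of exponent dividing four, `E` its involutions.
-/

set_option autoImplicit false
set_option linter.style.haveILetI false
set_option linter.unusedSectionVars false

namespace Cfsg.Lib.FourGen

universe u

/-- a maximal normal abelian subgroup of exponent dividing four with at most four square roots of one -/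
structure Setup (P : Type u) [Group P] [Finite P] where
  isP : IsPGroup 2 P
  A : Subgroup P
  normal : A.Normal
  comm : ∀ a ∈ A, ∀ b ∈ A, a * b = b * a
  exp : ∀ a ∈ A, a ^ 4 = 1
  max : ∀ B : Subgroup P, B.Normal → (∀ a ∈ B, ∀ b ∈ B, a * b = b * a) → (∀ a ∈ B, a ^ 4 = 1) →
    A ≤ B → B ≤ A
  small : ∀ B : Subgroup P, B.Normal → (∀ a ∈ B, ∀ b ∈ B, a * b = b * a) →
    (∀ a ∈ B, a * a = 1) → Nat.card B ≤ 4

variable {P : Type u} [Group P] [Finite P]

lemma pow_four_eq (x : P) : x ^ 4 = x * x * (x * x) := by simp [pow_succ, mul_assoc]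

lemma exists_central {G : Type u} [Group G] [Finite G] (hG : IsPGroup 2 G) (N : Subgroup G)
    [N.Normal] (hN : N ≠ ⊥) : ∃ r, r ∈ N ∧ r ∈ Subgroup.center G ∧ r ≠ 1 := by
  haveI : Fact (Nat.Prime 2) := ⟨Nat.prime_two⟩
  obtain ⟨r, h1, h2, h3⟩ := Cfsg.Lib.PGroups.exists_mem_center_of_normal_ne_bot hG hN
  exact ⟨r, h1, h2, fun e => by rw [e, orderOf_one] at h3; omega⟩

lemma Setup.exists' (hP : IsPGroup 2 P)
    (h : ∀ B : Subgroup P, B.Normal → (∀ a ∈ B, ∀ b ∈ B, a * b = b * a) →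
      (∀ a ∈ B, a * a = 1) → Nat.card B ≤ 4) : Nonempty (Setup P) := by
  obtain ⟨A, ⟨hn, hc, he⟩, hm⟩ := Set.Finite.exists_maximalFor (id : Subgroup P → Subgroup P)
    {B | B.Normal ∧ (∀ a ∈ B, ∀ b ∈ B, a * b = b * a) ∧ ∀ a ∈ B, a ^ 4 = 1} (Set.toFinite _)
    ⟨⊥, inferInstance, fun a ha b hb => by rw [Subgroup.mem_bot.1 ha, one_mul, mul_one],
      fun a ha => by rw [Subgroup.mem_bot.1 ha, one_pow]⟩
  exact ⟨⟨hP, A, hn, hc, he, fun B h1 h2 h3 h4 => hm ⟨h1, h2, h3⟩ h4, h⟩⟩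

namespace Setup

variable (S : Setup P)

/-- the centraliser of `A` -/
def C : Subgroup P := Subgroup.centralizer (S.A : Set P)

lemma mem_C {x : P} : x ∈ S.C ↔ ∀ a ∈ S.A, a * x = x * a := by
  simp [C, Subgroup.mem_centralizer_iff]

lemma A_le_C : S.A ≤ S.C := fun x hx => S.mem_C.2 fun a ha => S.comm a ha x hx

lemma conjA {a : P} (ha : a ∈ S.A) (g : P) : g⁻¹ * a * g ∈ S.A := by
  have := S.normal.conj_mem a ha g⁻¹
  rwa [inv_inv] at this

instance C_normal : S.C.Normal := by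
  constructor
  intro x hx g
  rw [S.mem_C] at hx ⊢
  intro a ha
  have := hx _ (S.conjA ha g)
  calc a * (g * x * g⁻¹) = g * (g⁻¹ * a * g * x) * g⁻¹ := by group
    _ = g * (x * (g⁻¹ * a * g)) * g⁻¹ := by rw [this]
    _ = g * x * g⁻¹ * a := by group

lemma conjC {c : P} (hc : c ∈ S.C) (g : P) : g⁻¹ * c * g ∈ S.C := by
  have := S.C_normal.conj_mem c hc g⁻¹
  rwa [inv_inv] at this

/-- Alperin's lemma -/
theorem alperin {x : P} (hx : x ∈ S.C) (h4 : x ^ 4 = 1) : x ∈ S.A := by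
  haveI : Fact (Nat.Prime 2) := ⟨Nat.prime_two⟩
  by_contra hxA
  obtain ⟨B, ⟨hBn, hAB, hBC, hbad⟩, hmin⟩ := Set.Finite.exists_minimalFor
    (id : Subgroup P → Subgroup P)
    {B | B.Normal ∧ S.A ≤ B ∧ B ≤ S.C ∧ ∃ y ∈ B, y ^ 4 = 1 ∧ y ∉ S.A} (Set.toFinite _)
    ⟨S.C, S.C_normal, S.A_le_C, le_rfl, x, hx, h4, hxA⟩
  obtain ⟨B', ⟨hB'n, hAB', hB'B⟩, hmax⟩ := Set.Finite.exists_maximalFor
    (id : Subgroup P → Subgroup P) {D | D.Normal ∧ S.A ≤ D ∧ D < B} (Set.toFinite _)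
    ⟨S.A, S.normal, le_rfl, lt_of_le_of_ne hAB (by
      rintro rfl; obtain ⟨y, hy, -, hy'⟩ := hbad; exact hy' hy)⟩
  have hgood : ∀ y ∈ B', y ^ 4 = 1 → y ∈ S.A := by
    intro y hy hy4
    by_contra hyA
    exact hB'B.not_ge (hmin ⟨hB'n, hAB', hB'B.le.trans hBC, y, hy, hy4, hyA⟩ hB'B.le)
  -- `B / B'` is central
  have hcentral : ∀ y ∈ B, ∀ g : P, y⁻¹ * (g⁻¹ * y * g) ∈ B' := by
    set π := QuotientGroup.mk' B'
    have hπ : Function.Surjective π := QuotientGroup.mk'_surjective B'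
    haveI : (B.map π).Normal := Subgroup.Normal.map hBn π hπ
    have hne : B.map π ≠ ⊥ := by
      rw [Ne, Subgroup.map_eq_bot_iff, QuotientGroup.ker_mk']
      exact hB'B.not_ge
    obtain ⟨q, hqB, hqc, hq1⟩ := exists_central (S.isP.to_quotient B') (B.map π) hne
    have hD : B ⊓ (Subgroup.center (P ⧸ B')).comap π = B := by
      refine le_antisymm inf_le_left ?_
      by_contra hlt
      have hlt' : B ⊓ (Subgroup.center (P ⧸ B')).comap π < B :=
        lt_of_le_of_ne inf_le_left fun e => hlt (le_of_eq e.symm)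
      have hB'D : B' ≤ B ⊓ (Subgroup.center (P ⧸ B')).comap π := le_inf hB'B.le fun y hy => by
        rw [Subgroup.mem_comap, QuotientGroup.mk'_apply, (QuotientGroup.eq_one_iff y).2 hy]
        exact one_mem _
      have := hmax (j := B ⊓ (Subgroup.center (P ⧸ B')).comap π)
        ⟨inferInstance, hAB'.trans hB'D, hlt'⟩ hB'D
      obtain ⟨y, hy, rfl⟩ := hqB
      exact hq1 ((QuotientGroup.eq_one_iff y).2 (this ⟨hy, hqc⟩))
    intro y hy g
    have hyc : π y ∈ Subgroup.center (P ⧸ B') := by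
      rw [← hD] at hy; exact hy.2
    rw [Subgroup.mem_center_iff] at hyc
    rw [← QuotientGroup.eq_one_iff, ← QuotientGroup.mk'_apply]
    simp only [map_mul, map_inv]
    calc (π y)⁻¹ * ((π g)⁻¹ * π y * π g) = (π y)⁻¹ * ((π g)⁻¹ * (π y * π g)) := by group
      _ = (π y)⁻¹ * ((π g)⁻¹ * (π g * π y)) := by rw [hyc (π g)]
      _ = 1 := by group
  -- a bad element with square in `A`
  obtain ⟨y, hyB, hy4, hy2, hyA⟩ : ∃ y ∈ B, y ^ 4 = 1 ∧ y * y ∈ S.A ∧ y ∉ S.A := by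
    obtain ⟨y, hy, hy4, hyA⟩ := hbad
    by_cases h2 : y * y ∈ S.A
    · exact ⟨y, hy, hy4, h2, hyA⟩
    · refine ⟨y * y, mul_mem hy hy, ?_, ?_, h2⟩
      · rw [← pow_two, ← pow_mul, mul_comm, pow_mul, hy4, one_pow]
      · rw [← pow_four_eq, hy4]; exact one_mem _
  have hcA : ∀ g, y⁻¹ * (g⁻¹ * y * g) ∈ S.A := by
    intro g
    set c := y⁻¹ * (g⁻¹ * y * g) with hc
    have hcB := hcentral y hyB g
    rw [← hc] at hcB
    have hcC : c ∈ S.C := hBC (hB'B.le hcB)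
    by_contra hcA
    have hsq : y * c * (y * c) ∈ S.A := by
      rw [show y * c * (y * c) = g⁻¹ * (y * y) * g by rw [hc]; group]
      exact S.conjA hy2 g
    set a := y⁻¹ * c * y * c with ha
    have haA : a ∈ S.A := by
      rw [show a = (y * y)⁻¹ * (y * c * (y * c)) by rw [ha]; group]
      exact mul_mem (inv_mem hy2) hsq
    have hconj : y⁻¹ * c * y = a * c⁻¹ := by rw [ha]; group
    have hac : Commute a c⁻¹ := (Commute.inv_right (S.mem_C.1 hcC a haA))
    obtain ⟨m, hm, hmn⟩ : ∃ m : ℕ, c ^ 2 ^ (m + 1) ∈ S.A ∧ c ^ 2 ^ m ∉ S.A := by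
      classical
      have hex : ∃ m : ℕ, c ^ 2 ^ m ∈ S.A := by
        obtain ⟨k, hk⟩ := S.isP c; exact ⟨k, hk ▸ one_mem _⟩
      rcases Nat.eq_zero_or_pos (Nat.find hex) with h0 | h0
      · have := Nat.find_spec hex; rw [h0, pow_zero, pow_one] at this; exact absurd this hcA
      · refine ⟨Nat.find hex - 1, ?_, Nat.find_min hex (by omega)⟩
        rw [Nat.sub_add_cancel h0]; exact Nat.find_spec hex
    set d := c ^ 2 ^ m with hd
    have hdC : d ∈ S.C := pow_mem hcC _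
    have hd4 : d ^ 4 ≠ 1 := fun e => hmn (hgood d (pow_mem hcB _) e)
    have hd2 : d * d ∈ S.A := by
      rw [hd, ← pow_add, show 2 ^ m + 2 ^ m = 2 ^ (m + 1) by ring]; exact hm
    have hdconj : y⁻¹ * d * y = a ^ 2 ^ m * d⁻¹ := by
      have h1 := conj_pow (i := 2 ^ m) (a := y⁻¹) (b := c)
      rw [inv_inv, hconj, hac.mul_pow, inv_pow] at h1
      exact h1.symm
    have hfix : y⁻¹ * (d * d) * y = d * d := by
      rw [mul_assoc, S.mem_C.1 (hBC hyB) _ hd2, inv_mul_cancel_left]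
    have had : Commute (a ^ 2 ^ m) d⁻¹ :=
      Commute.inv_right (S.mem_C.1 hdC _ (pow_mem haA _))
    have hd4' : d ^ 4 = (a ^ 2 ^ m) ^ 2 := by
      have h1 : d * d = (a ^ 2 ^ m) ^ 2 * d⁻¹ ^ 2 := by
        rw [← had.mul_pow, pow_two, ← hdconj, ← hfix]; group
      calc d ^ 4 = d * d * (d * d) := pow_four_eq d
        _ = (a ^ 2 ^ m) ^ 2 * d⁻¹ ^ 2 * (d * d) := by nth_rewrite 1 [h1]; rfl
        _ = (a ^ 2 ^ m) ^ 2 := by rw [pow_two d⁻¹]; group
    rcases Nat.eq_zero_or_pos m with rfl | hm0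
    · simp only [pow_zero, pow_one] at hd hd4'
      apply hd4
      rw [hd4']
      -- `(y c)⁴ = y⁴ a²`
      have h1 : y * c * (y * c) = y * y * a := by rw [ha]; group
      have h2 : (g⁻¹ * y * g) ^ 4 = 1 := by
        have := conj_pow (i := 4) (a := g⁻¹) (b := y)
        rw [inv_inv] at this
        rw [this, hy4]; group
      rw [show g⁻¹ * y * g = y * c by rw [hc]; group, show (4 : ℕ) = 2 * 2 from rfl, pow_mul,
        pow_two (y * c), h1, (show Commute (y * y) a from S.comm _ hy2 _ haA).mul_pow] at h2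
      rw [← pow_two y, ← pow_mul, show 2 * 2 = (4 : ℕ) from rfl, hy4, one_mul] at h2
      exact h2
    · apply hd4
      obtain ⟨i, rfl⟩ : ∃ i, m = i + 1 := ⟨m - 1, by omega⟩
      rw [hd4', ← pow_mul, show 2 ^ (i + 1) * 2 = 4 * 2 ^ i by ring, pow_mul, S.exp a haA, one_pow]
  -- enlarge `A`
  have hyy : ∀ a ∈ S.A, a * y = y * a := S.mem_C.1 (hBC hyB)
  let D : Subgroup P := S.A ⊔ Subgroup.zpowers y
  haveI hDn : D.Normal := by
    constructor
    intro d hd g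
    have hle : D ≤ D.comap (MulAut.conj g).toMonoidHom := by
      refine sup_le (fun a ha => Subgroup.mem_comap.2 (Subgroup.mem_sup_left ?_))
        (Subgroup.zpowers_le.2 (Subgroup.mem_comap.2 ?_))
      · simpa [MulAut.conj_apply] using S.normal.conj_mem a ha g
      · have e : g * y * g⁻¹ = y * (y⁻¹ * ((g⁻¹)⁻¹ * y * g⁻¹)) := by group
        simp only [MulEquiv.coe_toMonoidHom, MulAut.conj_apply, e]
        exact mul_mem (Subgroup.mem_sup_right (Subgroup.mem_zpowers y))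
          (Subgroup.mem_sup_left (hcA g⁻¹))
    simpa [MulAut.conj_apply] using Subgroup.mem_comap.1 (hle hd)
  have hmem : ∀ d ∈ D, ∃ a ∈ S.A, ∃ i : ℤ, d = a * y ^ i := by
    intro d hd
    haveI := S.normal
    obtain ⟨a, ha, z, hz, e⟩ := Subgroup.mem_sup_of_normal_left.1 hd
    obtain ⟨i, rfl⟩ := Subgroup.mem_zpowers_iff.1 hz
    exact ⟨a, ha, i, e.symm⟩
  refine hyA (S.max D hDn ?_ ?_ le_sup_left (Subgroup.mem_sup_right (Subgroup.mem_zpowers y)))
  · intro d hd e he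
    obtain ⟨a, ha, i, rfl⟩ := hmem d hd
    obtain ⟨b, hb, j, rfl⟩ := hmem e he
    have h1 : Commute a (b * y ^ j) :=
      Commute.mul_right (S.comm a ha b hb) (Commute.zpow_right (hyy a ha) j)
    have h2 : Commute (y ^ i) (b * y ^ j) :=
      Commute.mul_right (Commute.zpow_right (hyy b hb) i).symm (Commute.zpow_zpow_self y i j)
    exact h1.mul_left h2
  · intro d hd
    obtain ⟨a, ha, i, rfl⟩ := hmem d hd
    rw [(Commute.zpow_right (hyy a ha) i).mul_pow, S.exp a ha, one_mul, ← zpow_natCast,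
      ← zpow_mul, mul_comm, zpow_mul, zpow_natCast, hy4, one_zpow]

/-- inside the centraliser, elements of order at most four are central -/
lemma om4 {x : P} (hx : x ∈ S.C) (h4 : x ^ 4 = 1) {y : P} (hy : y ∈ S.C) : x * y = y * x :=
  S.mem_C.1 hy x (S.alperin hx h4)

lemma pow4_of_sq {x : P} (h : x * x = 1) : x ^ 4 = 1 := by
  rw [show (4 : ℕ) = 2 + 2 from rfl, pow_add, pow_two, h, one_mul]

/-- the square roots of one in `A` -/
def E : Subgroup P where
  carrier := {a | a ∈ S.A ∧ a * a = 1}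
  one_mem' := ⟨one_mem _, mul_one 1⟩
  mul_mem' {a b} ha hb := ⟨mul_mem ha.1 hb.1, by
    calc a * b * (a * b) = a * (b * a) * b := by group
      _ = a * a * (b * b) := by rw [← S.comm a ha.1 b hb.1]; group
      _ = 1 := by rw [ha.2, hb.2, one_mul]⟩
  inv_mem' {a} ha := ⟨inv_mem ha.1, by rw [← mul_inv_rev, ha.2, inv_one]⟩

lemma mem_E {a : P} : a ∈ S.E ↔ a ∈ S.A ∧ a * a = 1 := Iff.rfl

lemma E_le_A : S.E ≤ S.A := fun _ h => h.1

lemma E_le_C : S.E ≤ S.C := S.E_le_A.trans S.A_le_C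

lemma E_inv {a : P} (h : a ∈ S.E) : a⁻¹ = a := inv_eq_of_mul_eq_one_right h.2

lemma mem_E_of_C {x : P} (hx : x ∈ S.C) (h : x * x = 1) : x ∈ S.E :=
  ⟨S.alperin hx (pow4_of_sq h), h⟩

lemma conjE {e : P} (he : e ∈ S.E) (g : P) : g⁻¹ * e * g ∈ S.E :=
  ⟨S.conjA he.1 g, by rw [show g⁻¹ * e * g * (g⁻¹ * e * g) = g⁻¹ * (e * e) * g by group, he.2]
                      group⟩

instance E_normal : S.E.Normal := ⟨fun e he g => by
  have := S.conjE he g⁻¹
  rwa [inv_inv] at this⟩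

lemma card_E : Nat.card S.E ≤ 4 :=
  S.small S.E S.E_normal (fun a ha b hb => S.comm a ha.1 b hb.1) (fun _ ha => ha.2)

lemma card_E_cases : Nat.card S.E = 1 ∨ Nat.card S.E = 2 ∨ Nat.card S.E = 4 := by
  haveI : Fact (Nat.Prime 2) := ⟨Nat.prime_two⟩
  obtain ⟨k, hk⟩ := IsPGroup.iff_card.1 (S.isP.to_subgroup S.E)
  have h4 := S.card_E
  rw [hk] at h4 ⊢
  have : k ≤ 2 := (Nat.pow_le_pow_iff_right (le_refl 2)).1 (h4.trans (le_of_eq (by norm_num)))
  interval_cases k <;> simp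

/-- squares in the centraliser equal: quotient is in `E` -/
lemma sq_eq_C {x y : P} (hx : x ∈ S.C) (hy : y ∈ S.C) (e : x * x = y * y) : x⁻¹ * y ∈ S.E := by
  have h := sq_eq (S.isP.to_subgroup S.C)
    (fun a ha b => Subtype.ext (S.om4 a.2 (congrArg Subtype.val ha) b.2))
    (x := (⟨x, hx⟩ : S.C)) (y := ⟨y, hy⟩) (Subtype.ext e)
  refine S.mem_E_of_C (mul_mem (inv_mem hx) hy) ?_
  rw [← pow_two]; exact congrArg Subtype.val h

/-- the index bound inside the centraliser -/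
lemma relIndex_le_C {N K T : Subgroup P} (hK : K ≤ S.C) (hn : K ≤ Subgroup.normalizer (N : Set P))
    (hsq : ∀ x ∈ K, x * x ∈ N) (hT : K ⊓ S.E ≤ T) : N.relIndex K ≤ Nat.card T := by
  refine (relIndex_le S.isP (fun x hx h4 y hy => S.om4 (hK hx) h4 (hK hy)) hn hsq).trans ?_
  rw [← SetLike.coe_sort_coe, Nat.card_coe_set_eq]
  exact Set.ncard_le_ncard (fun x hx => hT ⟨hx.1, S.mem_E_of_C (hK hx.1) hx.2⟩) (Set.toFinite _)

/-- the centraliser of `E` -/
def P0 : Subgroup P := Subgroup.centralizer (S.E : Set P)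

lemma mem_P0 {x : P} : x ∈ S.P0 ↔ ∀ e ∈ S.E, e * x = x * e := by
  simp [P0, Subgroup.mem_centralizer_iff]

lemma C_le_P0 : S.C ≤ S.P0 := fun _ hx => S.mem_P0.2 fun e he => S.mem_C.1 hx e he.1

lemma fixE {x e : P} (hx : x ∈ S.P0) (he : e ∈ S.E) : x⁻¹ * e * x = e := by
  rw [mul_assoc, S.mem_P0.1 hx e he, inv_mul_cancel_left]

lemma conjP0 {x : P} (hx : x ∈ S.P0) (g : P) : g⁻¹ * x * g ∈ S.P0 := by
  rw [S.mem_P0] at hx ⊢
  intro e he
  have h := hx _ (S.conjE he g⁻¹)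
  rw [inv_inv] at h
  calc e * (g⁻¹ * x * g) = g⁻¹ * (g * e * g⁻¹ * x) * g := by group
    _ = g⁻¹ * (x * (g * e * g⁻¹)) * g := by rw [h]
    _ = g⁻¹ * x * g * e := by group

/-- commutator of `x` with `a` -/
def dl (_S : Setup P) (x a : P) : P := a⁻¹ * (x⁻¹ * a * x)

lemma dl_mem {x a : P} (hx : x ∈ S.P0) (ha : a ∈ S.A) : S.dl x a ∈ S.E := by
  refine ⟨mul_mem (inv_mem ha) (S.conjA ha x), ?_⟩
  have hsq : x⁻¹ * (a * a) * x = a * a :=
    S.fixE hx ⟨mul_mem ha ha, by rw [← pow_four_eq]; exact S.exp a ha⟩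
  have hc := S.comm _ (inv_mem ha) _ (S.conjA ha x)
  calc S.dl x a * S.dl x a
      = a⁻¹ * (x⁻¹ * a * x) * (a⁻¹ * (x⁻¹ * a * x)) := rfl
    _ = a⁻¹ * (x⁻¹ * a * x * a⁻¹) * (x⁻¹ * a * x) := by group
    _ = a⁻¹ * (a⁻¹ * (x⁻¹ * a * x)) * (x⁻¹ * a * x) := by rw [hc]
    _ = (a * a)⁻¹ * (x⁻¹ * (a * a) * x) := by group
    _ = 1 := by rw [hsq, inv_mul_cancel]

lemma dl_mul_right {x a b : P} (ha : a ∈ S.A) (hb : b ∈ S.A) :
    S.dl x (a * b) = S.dl x a * S.dl x b := by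
  have hc := S.comm _ (mul_mem (inv_mem ha) (S.conjA ha x)) _ (inv_mem hb)
  simp only [dl] at hc ⊢
  calc (a * b)⁻¹ * (x⁻¹ * (a * b) * x)
      = b⁻¹ * (a⁻¹ * (x⁻¹ * a * x)) * (x⁻¹ * b * x) := by group
    _ = a⁻¹ * (x⁻¹ * a * x) * b⁻¹ * (x⁻¹ * b * x) := by rw [hc]
    _ = _ := by group

lemma dl_E {x e : P} (hx : x ∈ S.P0) (he : e ∈ S.E) : S.dl x e = 1 := by
  rw [dl, S.fixE hx he, inv_mul_cancel]

lemma dl_mul_left {x y a : P} (hx : x ∈ S.P0) (hy : y ∈ S.P0) (ha : a ∈ S.A) :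
    S.dl (x * y) a = S.dl x a * S.dl y a := by
  have h1 := S.dl_mem hx ha
  have h2 := S.dl_mem hy ha
  rw [S.comm _ h1.1 _ h2.1]
  have hf := S.fixE hy h1
  simp only [dl] at hf ⊢
  calc a⁻¹ * ((x * y)⁻¹ * a * (x * y))
      = a⁻¹ * (y⁻¹ * a * y) * (y⁻¹ * (a⁻¹ * (x⁻¹ * a * x)) * y) := by group
    _ = _ := by rw [hf]

lemma dl_one_iff {x a : P} : S.dl x a = 1 ↔ a * x = x * a := by
  rw [dl, inv_mul_eq_one, eq_comm, mul_assoc, inv_mul_eq_iff_eq_mul]

lemma mem_C_iff {x : P} : x ∈ S.C ↔ ∀ a ∈ S.A, S.dl x a = 1 := by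
  rw [S.mem_C]; exact forall₂_congr fun a _ => S.dl_one_iff.symm

lemma dl_conj (x a g : P) : S.dl (g⁻¹ * x * g) (g⁻¹ * a * g) = g⁻¹ * S.dl x a * g := by
  simp only [dl]; group

/-- `g` moves the nonfixed points of `E` to each other -/
lemma E_swap : ∀ g h : P, g ∉ S.P0 → h ∉ S.P0 → g⁻¹ * h ∈ S.P0 := by
  haveI : Fact (Nat.Prime 2) := ⟨Nat.prime_two⟩
  intro g h hg hh
  have hne : S.E ≠ ⊥ := by
    intro e
    exact hg (S.mem_P0.2 fun a ha => by rw [e, Subgroup.mem_bot] at ha; rw [ha, one_mul, mul_one])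
  obtain ⟨r, hrE, hrc, hr1⟩ := exists_central S.isP S.E hne
  have key : ∀ k : P, k ∉ S.P0 → ∀ e ∈ S.E, e ≠ 1 → e ≠ r → k * e * k⁻¹ = r * e := by
    intro k hk e he he1 her
    have hk' : k * e * k⁻¹ ∈ S.E := S.E_normal.conj_mem e he k
    have hall : ∀ f ∈ S.E, f = 1 ∨ f = r ∨ f = e ∨ f = r * e := by
      intro f hf
      by_contra hc
      push Not at hc
      have h3 : r * e ≠ 1 := fun h' => her (by
        rw [← S.E_inv hrE]; exact (inv_eq_of_mul_eq_one_right h').symm)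
      have h4 : r * e ≠ r := fun h' => he1 (by simpa using h')
      have h5 : r * e ≠ e := fun h' => hr1 (by simpa using h')
      have hsub : ({1, r, e, r * e, f} : Set P) ⊆ S.E := by
        intro x hx
        simp only [Set.mem_insert_iff, Set.mem_singleton_iff] at hx
        rcases hx with rfl | rfl | rfl | rfl | rfl
        · exact one_mem _
        · exact hrE
        · exact he
        · exact mul_mem hrE he
        · exact hf
      have hle := Set.ncard_le_ncard hsub (Set.toFinite _)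
      rw [Set.ncard_insert_of_notMem (by simp [Ne.symm hr1, Ne.symm he1, Ne.symm h3, Ne.symm hc.1]),
        Set.ncard_insert_of_notMem (by simp [Ne.symm her, Ne.symm h4, Ne.symm hc.2.1]),
        Set.ncard_insert_of_notMem (by simp [Ne.symm h5, Ne.symm hc.2.2.1]),
        Set.ncard_insert_of_notMem (by simp [Ne.symm hc.2.2.2]), Set.ncard_singleton,
        ← Nat.card_coe_set_eq, SetLike.coe_sort_coe] at hle
      have := S.card_E
      omega
    rcases hall _ hk' with h' | h' | h' | h'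
    · exact absurd (conj_eq_one_iff.1 h') he1
    · exfalso
      apply her
      have h2 : e = k⁻¹ * r * k := by rw [← h']; group
      rw [h2, mul_assoc, ← (Subgroup.mem_center_iff.1 hrc k), inv_mul_cancel_left]
    · exfalso
      apply hk
      rw [S.mem_P0]
      intro f hf
      have hek : e * k = k * e := by
        calc e * k = k * e * k⁻¹ * k := by rw [h']
          _ = k * e := by group
      have hrk : r * k = k * r := (Subgroup.mem_center_iff.1 hrc k).symm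
      rcases hall f hf with rfl | rfl | rfl | rfl
      · rw [one_mul, mul_one]
      · exact hrk
      · exact hek
      · exact Commute.mul_left (hrk : Commute r k) hek
    · exact h'
  rw [S.mem_P0]
  intro e he
  by_cases he1 : e = 1
  · rw [he1, one_mul, mul_one]
  by_cases her : e = r
  · rw [her]; exact (Subgroup.mem_center_iff.1 hrc _).symm
  have h1 := key h hh e he he1 her
  have h2 := key g hg e he he1 her
  have h3 : g * e * g⁻¹ = h * e * h⁻¹ := h2.trans h1.symm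
  calc e * (g⁻¹ * h) = g⁻¹ * (g * e * g⁻¹) * h := by group
    _ = g⁻¹ * (h * e * h⁻¹) * h := by rw [h3]
    _ = g⁻¹ * h * e := by group

lemma relIndex_P0_le (H : Subgroup P) : (H ⊓ S.P0).relIndex H ≤ 2 ∧
    (H ≤ S.P0 → (H ⊓ S.P0).relIndex H = 1) := by
  refine ⟨?_, fun hle => by rw [inf_eq_left.2 hle, Subgroup.relIndex_self]⟩
  by_cases hle : H ≤ S.P0
  · rw [inf_eq_left.2 hle, Subgroup.relIndex_self]; omega
  obtain ⟨h, hh, hh0⟩ := SetLike.not_le_iff_exists.1 hle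
  rw [Subgroup.inf_relIndex_left, Subgroup.relIndex, Subgroup.index]
  refine (Nat.card_le_card_of_surjective (fun b : Bool =>
    (QuotientGroup.mk (if b then ⟨h, hh⟩ else (1 : H)) : H ⧸ S.P0.subgroupOf H)) ?_).trans
    (le_of_eq (by simp))
  intro q
  induction q using QuotientGroup.induction_on with
  | H z =>
    by_cases hz : (z : P) ∈ S.P0
    · exact ⟨false, QuotientGroup.eq.2 (by simpa [Subgroup.mem_subgroupOf] using hz)⟩
    · exact ⟨true, QuotientGroup.eq.2 (by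
        simpa [Subgroup.mem_subgroupOf] using S.E_swap h z hh0 hz)⟩

/-- squares in `N` force normalisation -/
lemma normalizes {N H : Subgroup P} (hNH : N ≤ H) (hsq : ∀ x ∈ H, x * x ∈ N) :
    H ≤ Subgroup.normalizer (N : Set P) := by
  intro g hg
  have key : ∀ g ∈ H, ∀ a ∈ N, g * a * g⁻¹ ∈ N := by
    intro g hg a ha
    rw [show g * a * g⁻¹ = g * g * ((g⁻¹ * a) * (g⁻¹ * a)) * a⁻¹ by group]
    exact mul_mem (mul_mem (hsq g hg) (hsq _ (mul_mem (inv_mem hg) (hNH ha)))) (inv_mem ha)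
  rw [Subgroup.mem_normalizer_iff]
  intro a
  refine ⟨key g hg a, fun ha => ?_⟩
  have := key g⁻¹ (inv_mem hg) _ ha
  rwa [show g⁻¹ * (g * a * g⁻¹) * g⁻¹⁻¹ = a by group] at this

variable {V : Type*} [AddCommGroup V]

/-- a coordinate map with kernel the centraliser -/
structure IsCol (f : P → V) : Prop where
  map_mul : ∀ x ∈ S.P0, ∀ y ∈ S.P0, f (x * y) = f x + f y
  ker : ∀ x ∈ S.P0, f x = 0 ↔ x ∈ S.C

namespace IsCol

variable {S} {f : P → V} (hf : S.IsCol f)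

include hf

lemma map_one : f 1 = 0 := (hf.ker 1 (one_mem _)).2 (one_mem _)

lemma map_inv {x : P} (hx : x ∈ S.P0) : f x⁻¹ = -f x := by
  have := hf.map_mul x hx x⁻¹ (inv_mem hx)
  rw [mul_inv_cancel, hf.map_one] at this
  exact (neg_eq_of_add_eq_zero_right this.symm).symm

lemma map_div {x y : P} (hx : x ∈ S.P0) (hy : y ∈ S.P0) : f (x⁻¹ * y) = -f x + f y := by
  rw [hf.map_mul _ (inv_mem hx) _ hy, hf.map_inv hx]

lemma eq_iff {x y : P} (hx : x ∈ S.P0) (hy : y ∈ S.P0) : f x = f y ↔ x⁻¹ * y ∈ S.C := by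
  rw [← hf.ker _ (mul_mem (inv_mem hx) hy), hf.map_div hx hy, neg_add_eq_zero]

/-- the image of `H ⊓ P0` -/
def img (H : Subgroup P) : AddSubgroup V where
  carrier := f '' ((H ⊓ S.P0 : Subgroup P) : Set P)
  zero_mem' := ⟨1, one_mem _, hf.map_one⟩
  add_mem' := by
    rintro _ _ ⟨x, hx, rfl⟩ ⟨y, hy, rfl⟩
    exact ⟨x * y, mul_mem hx hy, hf.map_mul x hx.2 y hy.2⟩
  neg_mem' := by
    rintro _ ⟨x, hx, rfl⟩
    exact ⟨x⁻¹, inv_mem hx, hf.map_inv hx.2⟩

lemma mem_img {H : Subgroup P} {v : V} : v ∈ hf.img H ↔ ∃ x ∈ H ⊓ S.P0, f x = v := Iff.rfl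

lemma relIndex_eq (H : Subgroup P) :
    (H ⊓ S.C).relIndex (H ⊓ S.P0) = Nat.card (hf.img H) := by
  let φ : ↥(H ⊓ S.P0) →* Multiplicative V :=
    { toFun := fun x => Multiplicative.ofAdd (f x.1)
      map_one' := by simp [hf.map_one]
      map_mul' := fun x y => by simp [hf.map_mul _ x.2.2 _ y.2.2] }
  have hker : (H ⊓ S.C).subgroupOf (H ⊓ S.P0) = φ.ker := by
    ext x
    rw [Subgroup.mem_subgroupOf, MonoidHom.mem_ker]
    exact ⟨fun h => congrArg Multiplicative.ofAdd ((hf.ker _ x.2.2).2 h.2),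
      fun h => ⟨x.2.1, (hf.ker _ x.2.2).1 (Multiplicative.ofAdd.injective h)⟩⟩
  rw [Subgroup.relIndex, hker, Subgroup.index_ker]
  refine Nat.card_congr (Equiv.subtypeEquiv Multiplicative.toAdd fun v => ?_)
  constructor
  · rintro ⟨x, rfl⟩; exact ⟨x.1, x.2, rfl⟩
  · rintro ⟨x, hx, e⟩; exact ⟨⟨x, hx⟩, congrArg Multiplicative.ofAdd e⟩

/-- the counting identity -/
theorem count {H N : Subgroup P} (hNH : N ≤ H) :
    N.relIndex H * (N ⊓ S.C).relIndex N =
      (N ⊓ S.C).relIndex (H ⊓ S.C) * (Nat.card (hf.img H) * (H ⊓ S.P0).relIndex H) := by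
  have h1 : N ⊓ S.C ≤ H ⊓ S.C := inf_le_inf_right _ hNH
  rw [mul_comm, Subgroup.relIndex_mul_relIndex _ _ _ inf_le_left hNH, ← hf.relIndex_eq H,
    Subgroup.relIndex_mul_relIndex _ _ _ (inf_le_inf_left H S.C_le_P0) inf_le_left,
    Subgroup.relIndex_mul_relIndex _ _ _ h1 inf_le_left]

/-- a moved value gives a factor two -/
theorem moved {H N : Subgroup P} (hsq : ∀ x ∈ H, x * x ∈ N) {x h : P} (hx : x ∈ H ⊓ S.P0)
    (hh : h ∈ H) (hne : f (h⁻¹ * x * h) ≠ f x) : 2 ≤ (N ⊓ S.C).relIndex N := by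
  have hcN : x⁻¹ * (h⁻¹ * x * h) ∈ N := by
    rw [show x⁻¹ * (h⁻¹ * x * h) = (x * x)⁻¹ * (x * h⁻¹ * (x * h⁻¹)) * (h * h) by group]
    exact mul_mem (mul_mem (inv_mem (hsq x hx.1)) (hsq _ (mul_mem hx.1 (inv_mem hh)))) (hsq h hh)
  have h1 : (N ⊓ S.C).relIndex N ≠ 1 := fun e => by
    have hC := ((Subgroup.relIndex_eq_one.1 e) hcN).2
    exact hne ((hf.eq_iff hx.2 (S.conjP0 hx.2 h)).2 hC).symm
  have h0 : (N ⊓ S.C).relIndex N ≠ 0 := Subgroup.index_ne_zero_of_finite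
  omega

end IsCol

/-- the first factor is at most four -/
lemma relIndex_C_le {H N : Subgroup P} (hNH : N ≤ H) (hsq : ∀ x ∈ H, x * x ∈ N) :
    (N ⊓ S.C).relIndex (H ⊓ S.C) ≤ 4 :=
  (S.relIndex_le_C inf_le_right
    (Setup.normalizes (inf_le_inf_right _ hNH)
      fun x hx => Subgroup.mem_inf.2 ⟨hsq x hx.1, mul_mem hx.2 hx.2⟩)
    (fun x hx => ⟨hsq x hx.1, mul_mem hx.2 hx.2⟩) inf_le_right).trans S.card_E

end Setup

end Cfsg.Lib.FourGen
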