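import Mathlib

/-!
# Two by two matrices over the field with two elements, as pairs of columns
-/

set_option autoImplicit false

namespace Cfsg.Lib.FourGen

/-- column vectors -/
abbrev V2 : Type := ZMod 2 × ZMod 2

/-- matrices as pairs of columns -/
abbrev M2 : Type := V2 × V2

/-- apply a matrix -/
def app (M : M2) (v : V2) : V2 := (v.1 * M.1.1 + v.2 * M.2.1, v.1 * M.1.2 + v.2 * M.2.2)

/-- product -/
def comp (M N : M2) : M2 := (app M N.1, app M N.2)

/-- identity -/
def one2 : M2 := ((1, 0), (0, 1))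

/-- the standard nilpotent -/
def nil1 : M2 := ((0, 0), (1, 0))

/-- the standard unipotent -/
def uni1 : M2 := ((1, 0), (1, 1))

/-- a matrix without eigenvalues -/
def om2 : M2 := ((0, 1), (1, 1))

/-- conjugation by the unipotent -/
def phi (M : M2) : M2 := comp uni1 (comp M uni1)

/-- injective -/
def Inj (M : M2) : Prop := ∀ v, app M v = 0 → v = 0

instance : DecidablePred Inj := fun M => inferInstanceAs (Decidable (∀ v, app M v = 0 → v = 0))

lemma app_add_left (M N : M2) (v : V2) : app (M + N) v = app M v + app N v := by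
  ext <;> simp [app] <;> ring

lemma app_add_right (M : M2) (v w : V2) : app M (v + w) = app M v + app M w := by
  ext <;> simp [app] <;> ring

lemma app_zero (M : M2) : app M 0 = 0 := by ext <;> simp [app]

lemma zero_app (v : V2) : app 0 v = 0 := by ext <;> simp [app]

lemma add_self_M (M : M2) : M + M = 0 := by revert M; decide

lemma add_self_V (v : V2) : v + v = 0 := by revert v; decide

lemma app_one2 (v : V2) : app one2 v = v := by revert v; decide

lemma inj_one_add_nil : ∀ M : M2, comp M M = 0 → Inj (one2 + M) := by decide +kernel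

lemma fixfree : ∀ M : M2, Inj M → Inj (one2 + M) → M = om2 ∨ M = om2 + one2 := by decide +kernel

lemma inj_om : Inj om2 ∧ Inj (one2 + om2) ∧ Inj (om2 + one2) ∧ Inj (one2 + (om2 + one2)) := by
  decide +kernel

lemma ker_nil_unique : ∀ M : M2, M ≠ 0 → comp M M = 0 → ∀ v w : V2, app M v = 0 → app M w = 0 →
    v ≠ 0 → w ≠ 0 → v = w := by decide +kernel

lemma inj_surj : ∀ M : M2, Inj M → ∀ w : V2, ∃ v, app M v = w := by decide +kernel

lemma phi_fix : ∀ M : M2, phi M = M → M = 0 ∨ M = one2 ∨ M = nil1 ∨ M = uni1 := by decide +kernel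

lemma phi_facts : phi nil1 = nil1 ∧ phi uni1 = uni1 ∧ one2 + nil1 = uni1 ∧ nil1 ≠ 0 ∧
    comp nil1 nil1 = 0 ∧ Inj uni1 ∧ phi ((1, 0), (0, 0)) + ((1, 0), (0, 0)) = nil1 := by
  decide +kernel

lemma phi_phi : ∀ M : M2, phi (phi M) = M := by decide +kernel

lemma phi_fix_card : ((Finset.univ : Finset M2).filter fun M => phi M = M).card = 4 := by
  decide +kernel

lemma eq_of_app_uni {M M' : M2} (h : ∀ v, app M' (app uni1 v) = app uni1 (app M v)) :
    M' = phi M := by
  have h1 := h (app uni1 (1, 0))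
  have h2 := h (app uni1 (0, 1))
  revert h1 h2
  clear h
  revert M M'
  decide +kernel

lemma nil_pick : (nil1 ≠ 0 ∧ comp nil1 nil1 = 0) ∧
    ((((0, 1), (0, 0)) : M2) ≠ 0 ∧ comp (((0, 1), (0, 0)) : M2) ((0, 1), (0, 0)) = 0) ∧
    ((((1, 1), (1, 1)) : M2) ≠ 0 ∧ comp (((1, 1), (1, 1)) : M2) ((1, 1), (1, 1)) = 0) ∧
    nil1 + ((0, 1), (0, 0)) + one2 = (((1, 1), (1, 1)) : M2) := by
  decide +kernel

end Cfsg.Lib.FourGen
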