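import Mathlib
import Cfsg.Agent.PGroups.FourGenerator.Alperin
import Cfsg.Agent.PGroups.FourGenerator.Mat2

/-!
# Four-generator theorem: coordinates in the case `|A : E| = |E| = 4`
-/

set_option autoImplicit false
set_option linter.style.haveILetI false
set_option linter.unusedSectionVars false

namespace Cfsg.Lib.FourGen

universe u

variable {P : Type u} [Group P] [Finite P]

/-- coordinates on `E` and on `A` modulo `E` -/
structure Coord (S : Setup P) where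
  r : P
  s : P
  a1 : P
  a2 : P
  r_center : r ∈ Subgroup.center P
  hr : r ∈ S.E
  hs : s ∈ S.E
  hr1 : r ≠ 1
  hs1 : s ≠ 1
  hsr : s ≠ r
  ha1 : a1 ∈ S.A
  ha2 : a2 ∈ S.A
  sq1 : a1 * a1 = r
  sq2 : a2 * a2 = s

lemma Setup.exists_coord (S : Setup P) (hcard : Nat.card S.E = 4)
    (hsurj : ∀ e ∈ S.E, ∃ a ∈ S.A, a * a = e) : Nonempty (Coord S) := by
  classical
  have hne : S.E ≠ ⊥ := fun e => by simp [e] at hcard
  obtain ⟨r, hrE, hrc, hr1⟩ := exists_central S.isP S.E hne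
  obtain ⟨s, hs, hs1, hsr⟩ : ∃ s ∈ S.E, s ≠ 1 ∧ s ≠ r := by
    by_contra hc
    push Not at hc
    have hsub : (S.E : Set P) ⊆ {1, r} := fun x hx => by
      by_cases h : x = 1
      · exact Or.inl h
      · exact Or.inr (hc x hx h)
    have := Set.ncard_le_ncard hsub (Set.toFinite _)
    rw [← Nat.card_coe_set_eq, SetLike.coe_sort_coe, hcard] at this
    have h2 : ({1, r} : Set P).ncard ≤ 2 := (Set.ncard_insert_le _ _).trans (by simp)
    omega
  obtain ⟨a1, ha1, e1⟩ := hsurj r hrE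
  obtain ⟨a2, ha2, e2⟩ := hsurj s hs
  exact ⟨⟨r, s, a1, a2, hrc, hrE, hs, hr1, hs1, hsr, ha1, ha2, e1, e2⟩⟩

namespace Coord

variable {S : Setup P} (K : Coord S)

lemma rr : K.r * K.r = 1 := K.hr.2

lemma ss : K.s * K.s = 1 := K.hs.2

lemma sr : K.s * K.r = K.r * K.s := S.comm _ K.hs.1 _ K.hr.1

lemma rs_ne_one : K.r * K.s ≠ 1 := fun h => K.hsr (by
  rw [← inv_eq_of_mul_eq_one_right h, S.E_inv K.hr])

lemma rs_ne_r : K.r * K.s ≠ K.r := fun h => K.hs1 (by simpa using h)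

lemma rs_ne_s : K.r * K.s ≠ K.s := fun h => K.hr1 (by simpa using h)

lemma E_eq {e : P} (he : e ∈ S.E) : e = 1 ∨ e = K.r ∨ e = K.s ∨ e = K.r * K.s := by
  by_contra hc
  push Not at hc
  have hsub : ({1, K.r, K.s, K.r * K.s, e} : Set P) ⊆ S.E := by
    intro x hx
    simp only [Set.mem_insert_iff, Set.mem_singleton_iff] at hx
    rcases hx with rfl | rfl | rfl | rfl | rfl
    · exact one_mem _
    · exact K.hr
    · exact K.hs
    · exact mul_mem K.hr K.hs
    · exact he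
  have hle := Set.ncard_le_ncard hsub (Set.toFinite _)
  rw [Set.ncard_insert_of_notMem (by
      simp [Ne.symm K.hr1, Ne.symm K.hs1, Ne.symm K.rs_ne_one, Ne.symm hc.1]),
    Set.ncard_insert_of_notMem (by simp [Ne.symm K.hsr, Ne.symm K.rs_ne_r, Ne.symm hc.2.1]),
    Set.ncard_insert_of_notMem (by simp [Ne.symm K.rs_ne_s, Ne.symm hc.2.2.1]),
    Set.ncard_insert_of_notMem (by simp [Ne.symm hc.2.2.2]), Set.ncard_singleton,
    ← Nat.card_coe_set_eq, SetLike.coe_sort_coe] at hle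
  have := S.card_E
  omega

open scoped Classical in
/-- coordinates on `E` -/
noncomputable def cd (e : P) : V2 :=
  if e = 1 then 0 else if e = K.r then (1, 0) else if e = K.s then (0, 1) else (1, 1)

@[simp] lemma cd_one : K.cd 1 = 0 := by simp [cd]

@[simp] lemma cd_r : K.cd K.r = (1, 0) := by simp [cd, K.hr1]

@[simp] lemma cd_s : K.cd K.s = (0, 1) := by simp [cd, K.hs1, K.hsr]

@[simp] lemma cd_rs : K.cd (K.r * K.s) = (1, 1) := by
  simp [cd, K.rs_ne_one, K.hs1, K.hr1]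

lemma cd_mul {e f : P} (he : e ∈ S.E) (hf : f ∈ S.E) : K.cd (e * f) = K.cd e + K.cd f := by
  have h1 : K.s * (K.r * K.s) = K.r := by rw [← mul_assoc, K.sr, mul_assoc, K.ss, mul_one]
  have h2 : K.r * (K.r * K.s) = K.s := by rw [← mul_assoc, K.rr, one_mul]
  have h3 : K.r * K.s * K.r = K.s := by rw [mul_assoc, K.sr, h2]
  have h4 : K.r * K.s * K.s = K.r := by rw [mul_assoc, K.ss, mul_one]
  have h5 : K.r * K.s * (K.r * K.s) = 1 := by rw [mul_assoc, h1, K.rr]
  rcases K.E_eq he with rfl | rfl | rfl | rfl <;> rcases K.E_eq hf with rfl | rfl | rfl | rfl <;>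
    simp only [one_mul, mul_one, K.rr, K.ss, K.sr, h1, h2, h3, h4, h5, cd_one, cd_r, cd_s, cd_rs] <;>
    decide

lemma cd_eq_zero {e : P} (he : e ∈ S.E) : K.cd e = 0 ↔ e = 1 := by
  rcases K.E_eq he with rfl | rfl | rfl | rfl <;>
    simp [K.hr1, K.hs1, K.rs_ne_one, Prod.ext_iff]

lemma cd_surj (v : V2) : ∃ e ∈ S.E, K.cd e = v := by
  have : v = 0 ∨ v = (1, 0) ∨ v = (0, 1) ∨ v = (1, 1) := by revert v; decide
  rcases this with rfl | rfl | rfl | rfl
  · exact ⟨1, one_mem _, K.cd_one⟩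
  · exact ⟨_, K.hr, K.cd_r⟩
  · exact ⟨_, K.hs, K.cd_s⟩
  · exact ⟨_, mul_mem K.hr K.hs, K.cd_rs⟩

include K in
lemma lift {e : P} (he : e ∈ S.E) : ∃ a ∈ S.A, a * a = e := by
  rcases K.E_eq he with rfl | rfl | rfl | rfl
  · exact ⟨1, one_mem _, mul_one 1⟩
  · exact ⟨_, K.ha1, K.sq1⟩
  · exact ⟨_, K.ha2, K.sq2⟩
  · refine ⟨K.a1 * K.a2, mul_mem K.ha1 K.ha2, ?_⟩
    rw [(show Commute K.a2 K.a1 from S.comm _ K.ha2 _ K.ha1).mul_mul_mul_comm, K.sq1, K.sq2]

lemma sq_mem {a : P} (ha : a ∈ S.A) : a * a ∈ S.E :=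
  ⟨mul_mem ha ha, by rw [← pow_four_eq]; exact S.exp a ha⟩

lemma dl_congr {x a b : P} (hx : x ∈ S.P0) (ha : a ∈ S.A) (hb : b ∈ S.A) (h : a * a = b * b) :
    S.dl x a = S.dl x b := by
  have he : a⁻¹ * b ∈ S.E := S.sq_eq_C (S.A_le_C ha) (S.A_le_C hb) h
  have : S.dl x (a * (a⁻¹ * b)) = S.dl x a := by
    rw [S.dl_mul_right ha he.1, S.dl_E hx he, mul_one]
  rw [← this, mul_inv_cancel_left]

/-- the matrix of an element of `P0` -/
noncomputable def col (x : P) : M2 := (K.cd (S.dl x K.a1), K.cd (S.dl x K.a2))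

lemma app_col {x a : P} (hx : x ∈ S.P0) (ha : a ∈ S.A) :
    app (K.col x) (K.cd (a * a)) = K.cd (S.dl x a) := by
  rcases K.E_eq (sq_mem ha) with h | h | h | h <;> rw [h]
  · rw [S.dl_E hx ⟨ha, h⟩, cd_one, app_zero]
  · rw [dl_congr hx ha K.ha1 (h.trans K.sq1.symm)]
    simp [app, col]
  · rw [dl_congr hx ha K.ha2 (h.trans K.sq2.symm)]
    simp [app, col]
  · rw [dl_congr hx ha (mul_mem K.ha1 K.ha2) (b := K.a1 * K.a2) (by
      rw [h, (show Commute K.a2 K.a1 from S.comm _ K.ha2 _ K.ha1).mul_mul_mul_comm, K.sq1, K.sq2]),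
      S.dl_mul_right K.ha1 K.ha2, K.cd_mul (S.dl_mem hx K.ha1) (S.dl_mem hx K.ha2)]
    simp [app, col, Prod.ext_iff]

lemma isCol : S.IsCol K.col := by
  constructor
  · intro x hx y hy
    simp only [col, S.dl_mul_left hx hy K.ha1, S.dl_mul_left hx hy K.ha2,
      K.cd_mul (S.dl_mem hx K.ha1) (S.dl_mem hy K.ha1),
      K.cd_mul (S.dl_mem hx K.ha2) (S.dl_mem hy K.ha2), Prod.mk_add_mk]
  · intro x hx
    rw [S.mem_C_iff]
    refine ⟨fun h a ha => ?_, fun h => ?_⟩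
    · rw [← K.cd_eq_zero (S.dl_mem hx ha), ← K.app_col hx ha, h, zero_app]
    · simp [col, h K.a1 K.ha1, h K.a2 K.ha2]

lemma col_mul {x y : P} (hx : x ∈ S.P0) (hy : y ∈ S.P0) : K.col (x * y) = K.col x + K.col y :=
  K.isCol.map_mul x hx y hy

lemma col_C {c : P} (hc : c ∈ S.C) : K.col c = 0 := (K.isCol.ker c (S.C_le_P0 hc)).2 hc

lemma col_inv {x : P} (hx : x ∈ S.P0) : K.col x⁻¹ = K.col x := by
  rw [K.isCol.map_inv hx, neg_eq_iff_add_eq_zero, add_self_M]

lemma col_eq_iff {x y : P} (hx : x ∈ S.P0) (hy : y ∈ S.P0) :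
    K.col x = K.col y ↔ x⁻¹ * y ∈ S.C := K.isCol.eq_iff hx hy

include K in
lemma sq_C {x : P} (hx : x ∈ S.P0) : x * x ∈ S.C := by
  rw [← K.isCol.ker _ (mul_mem hx hx), K.col_mul hx hx, add_self_M]

lemma col_conj_P0 {x g : P} (hx : x ∈ S.P0) (hg : g ∈ S.P0) :
    K.col (g⁻¹ * x * g) = K.col x := by
  rw [K.col_mul (mul_mem (inv_mem hg) hx) hg, K.col_mul (inv_mem hg) hx, K.col_inv hg,
    add_right_comm, add_self_M, zero_add]

lemma conj_not_P0 {g : P} (hg : g ∉ S.P0) {e : P} (he : e ∈ S.E) :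
    K.cd (g⁻¹ * e * g) = app uni1 (K.cd e) := by
  have hrg : g⁻¹ * K.r * g = K.r := by
    rw [mul_assoc, ← Subgroup.mem_center_iff.1 K.r_center g, inv_mul_cancel_left]
  have hsg : g⁻¹ * K.s * g = K.r * K.s := by
    rcases K.E_eq (S.conjE K.hs g) with h | h | h | h
    · exfalso
      have := congrArg (fun z => g * z * g⁻¹) h
      exact K.hs1 (by simpa [mul_assoc] using this)
    · exfalso
      have h' := h.trans hrg.symm
      exact K.hsr (by simpa using h')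
    · exfalso
      apply hg
      rw [S.mem_P0]
      have hsc : K.s * g = g * K.s := by rw [mul_assoc, inv_mul_eq_iff_eq_mul] at h; exact h
      have hrc : K.r * g = g * K.r := (Subgroup.mem_center_iff.1 K.r_center g).symm
      intro f hf
      rcases K.E_eq hf with rfl | rfl | rfl | rfl
      · rw [one_mul, mul_one]
      · exact hrc
      · exact hsc
      · exact Commute.mul_left hrc hsc
    · exact h
  rcases K.E_eq he with rfl | rfl | rfl | rfl
  · simp [app_zero]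
  · rw [hrg]; simp [app, uni1]
  · rw [hsg]; simp [app, uni1]
  · rw [show g⁻¹ * (K.r * K.s) * g = (g⁻¹ * K.r * g) * (g⁻¹ * K.s * g) by group, hrg, hsg,
      K.cd_mul K.hr (mul_mem K.hr K.hs)]
    simp [app, uni1]

lemma col_conj_not {x g : P} (hx : x ∈ S.P0) (hg : g ∉ S.P0) :
    K.col (g⁻¹ * x * g) = phi (K.col x) := by
  refine eq_of_app_uni fun v => ?_
  obtain ⟨e, he, rfl⟩ := K.cd_surj v
  obtain ⟨a, ha, rfl⟩ := K.lift he
  rw [K.app_col hx ha, ← K.conj_not_P0 hg (S.dl_mem hx ha), ← S.dl_conj,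
    ← K.app_col (S.conjP0 hx g) (S.conjA ha g), ← K.conj_not_P0 hg he]
  congr 2
  group

/-- fixed by all conjugations -/
def Fixed (M : M2) : Prop := phi M = M ∨ ∀ g : P, g ∈ S.P0

lemma col_conj_fixed {M : M2} (hM : Fixed (S := S) M) {x : P} (hx : x ∈ S.P0) (e : K.col x = M)
    (g : P) : K.col (g⁻¹ * x * g) = M := by
  by_cases hg : g ∈ S.P0
  · rw [K.col_conj_P0 hx hg, e]
  · rcases hM with h | h
    · rw [K.col_conj_not hx hg, e, h]
    · exact absurd (h g) hg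

end Coord

end Cfsg.Lib.FourGen
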