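import Mathlib
import Cfsg.Agent.PGroups.FourGenerator.Coord

/-!
# Four-generator theorem: key lemmas on the action on `A`
-/

set_option autoImplicit false
set_option linter.style.haveILetI false
set_option linter.unusedSectionVars false

namespace Cfsg.Lib.FourGen

universe u

variable {P : Type u} [Group P] [Finite P]

namespace Setup

variable (S : Setup P)

/-- the last power of `c` outside the exponent two part -/
lemma last_in_A {c : P} (hc : c ∈ S.C) (h : c * c ≠ 1) :
    ∃ j : ℕ, c ^ 2 ^ j ∈ S.A ∧ c ^ 2 ^ j * c ^ 2 ^ j ≠ 1 := by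
  rw [← pow_two] at h
  obtain ⟨j, h4, h2, -⟩ := exists_pow_order_four S.isP h
  exact ⟨j, S.alperin (pow_mem hc _) h4, by rw [← pow_two]; exact h2⟩

/-- an element outside `A` whose square is inside -/
lemma exists_top {c : P} (hc : c ∈ S.C) (hcA : c ∉ S.A) :
    ∃ d ∈ S.C, d ∉ S.A ∧ d * d ∈ S.A := by
  classical
  have hex : ∃ m : ℕ, c ^ 2 ^ m ∈ S.A := by
    obtain ⟨k, hk⟩ := S.isP c; exact ⟨k, hk ▸ one_mem _⟩
  rcases Nat.eq_zero_or_pos (Nat.find hex) with h0 | h0
  · have := Nat.find_spec hex; rw [h0, pow_zero, pow_one] at this; exact absurd this hcA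
  · obtain ⟨i, hi⟩ : ∃ i, Nat.find hex = i + 1 := ⟨Nat.find hex - 1, by omega⟩
    refine ⟨c ^ 2 ^ i, pow_mem hc _, Nat.find_min hex (by omega), ?_⟩
    rw [← pow_add, show 2 ^ i + 2 ^ i = 2 ^ (i + 1) by ring, ← hi]
    exact Nat.find_spec hex

end Setup

namespace Coord

variable {S : Setup P} (K : Coord S)

lemma cd_inj {e f : P} (he : e ∈ S.E) (hf : f ∈ S.E) (h : K.cd e = K.cd f) : e = f := by
  have h1 : e * f = 1 := by
    rw [← K.cd_eq_zero (mul_mem he hf), K.cd_mul he hf, h, add_self_V]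
  rw [eq_inv_of_mul_eq_one_left h1, S.E_inv hf]

/-- elements acting injectively have short order -/
lemma short_of_inj {y : P} (hy : y ∈ S.P0) (hM : Inj (K.col y)) : y * y ∈ S.E := by
  refine S.mem_E_of_C (K.sq_C hy) ?_
  by_contra hne
  obtain ⟨j, haA, ha1⟩ := S.last_in_A (K.sq_C hy) hne
  refine ha1 ((K.cd_eq_zero (Coord.sq_mem haA)).1 (hM _ ?_))
  rw [K.app_col hy haA, S.dl_one_iff.2 ?_, cd_one]
  exact ((Commute.refl y).mul_left (Commute.refl y)).pow_left _

/-- no short element with a fixed image -/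
lemma no_short {M : M2} (hM0 : M ≠ 0) (hM1 : Inj (one2 + M)) (hfix : Fixed (S := S) M) {y : P}
    (hy : y ∈ S.P0) (hcol : K.col y = M) (hsq : y * y ∈ S.E) : False := by
  -- an involution in the coset
  obtain ⟨v, hv⟩ := inj_surj _ hM1 (K.cd (y * y))
  obtain ⟨e, he, rfl⟩ := K.cd_surj v
  obtain ⟨a, ha, rfl⟩ := K.lift he
  set z := y * a with hzdef
  have hz0 : z ∈ S.P0 := mul_mem hy (S.C_le_P0 (S.A_le_C ha))
  have hzcol : K.col z = M := by
    rw [K.col_mul hy (S.C_le_P0 (S.A_le_C ha)), K.col_C (S.A_le_C ha), add_zero, hcol]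
  have hzz : z * z = 1 := by
    have hd := S.dl_mem hy ha
    have h1 : z * z = y * y * (a * a * S.dl y a) := by
      have hc : S.dl y a * a = a * S.dl y a := S.comm _ hd.1 a ha
      calc z * z = y * y * (a * S.dl y a * a) := by rw [hzdef]; simp only [Setup.dl]; group
        _ = y * y * (a * a * S.dl y a) := by rw [mul_assoc a _ a, hc, ← mul_assoc a]
    rw [h1]
    have haa := Coord.sq_mem ha
    refine (K.cd_eq_zero (mul_mem hsq (mul_mem haa hd))).1 ?_
    rw [K.cd_mul hsq (mul_mem haa hd), K.cd_mul haa hd, ← K.app_col hy ha, hcol]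
    rw [app_add_left, app_one2] at hv
    rw [hv, add_self_V]
  have hzinv : z⁻¹ = z := inv_eq_of_mul_eq_one_right hzz
  -- its conjugates differ by elements of `E`
  have hconj : ∀ g, z⁻¹ * (g⁻¹ * z * g) ∈ S.E := by
    intro g
    set c := z⁻¹ * (g⁻¹ * z * g) with hc
    have hcC : c ∈ S.C :=
      (K.col_eq_iff hz0 (S.conjP0 hz0 g)).1
        (hzcol.trans (K.col_conj_fixed hfix hz0 hzcol g).symm)
    refine S.mem_E_of_C hcC ?_
    by_contra hne
    have hinv : z⁻¹ * c * z = c⁻¹ := by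
      have h1 : z * c * (z * c) = 1 := by
        rw [show z * c * (z * c) = g⁻¹ * (z * z) * g by rw [hc]; group, hzz, mul_one, inv_mul_cancel]
      refine eq_inv_of_mul_eq_one_left ?_
      rw [hzinv]; simpa [mul_assoc] using h1
    obtain ⟨j, hA, h2⟩ := S.last_in_A hcC hne
    set d := c ^ 2 ^ j with hd
    have hdinv : z⁻¹ * d * z = d⁻¹ := by
      have := conj_pow (i := 2 ^ j) (a := z⁻¹) (b := c)
      rw [inv_inv, hinv, inv_pow] at this
      exact this.symm
    have h3 : S.dl z d = d * d := by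
      rw [Setup.dl, hdinv, ← mul_inv_rev]
      exact inv_eq_of_mul_eq_one_right (Coord.sq_mem hA).2
    have h4 := K.app_col hz0 hA
    rw [h3, hzcol] at h4
    have h5 : app (one2 + M) (K.cd (d * d)) = 0 := by
      rw [app_add_left, app_one2, h4, add_self_V]
    exact h2 ((K.cd_eq_zero (Coord.sq_mem hA)).1 (hM1 _ h5))
  -- a normal elementary abelian subgroup of order eight
  have hzE : z ∉ S.E := fun h => hM0 (hzcol.symm.trans (K.col_C (S.E_le_C h)))
  let D : Subgroup P := S.E ⊔ Subgroup.zpowers z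
  have hmem : ∀ d ∈ D, ∃ e ∈ S.E, d = e ∨ d = e * z := by
    intro d hd
    haveI := S.E_normal
    obtain ⟨e, he, w, hw, rfl⟩ := Subgroup.mem_sup_of_normal_left.1 hd
    obtain ⟨i, rfl⟩ := Subgroup.mem_zpowers_iff.1 hw
    refine ⟨e, he, ?_⟩
    rcases Int.even_or_odd i with ⟨k, rfl⟩ | ⟨k, rfl⟩
    · left; rw [← two_mul, zpow_mul, zpow_two, hzz, one_zpow, mul_one]
    · right; rw [zpow_add, zpow_mul, zpow_two, hzz, one_zpow, one_mul, zpow_one]
  have hcomm : ∀ e ∈ S.E, e * z = z * e := S.mem_P0.1 hz0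
  have hDn : D.Normal := by
    constructor
    intro d hd g
    have hle : D ≤ D.comap (MulAut.conj g).toMonoidHom := by
      refine sup_le (fun a ha => Subgroup.mem_comap.2 (Subgroup.mem_sup_left ?_))
        (Subgroup.zpowers_le.2 (Subgroup.mem_comap.2 ?_))
      · simpa [MulAut.conj_apply] using S.E_normal.conj_mem a ha g
      · have e : g * z * g⁻¹ = z * (z⁻¹ * ((g⁻¹)⁻¹ * z * g⁻¹)) := by group
        simp only [MulEquiv.coe_toMonoidHom, MulAut.conj_apply, e]
        exact mul_mem (Subgroup.mem_sup_right (Subgroup.mem_zpowers z))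
          (Subgroup.mem_sup_left (hconj g⁻¹))
    simpa [MulAut.conj_apply] using Subgroup.mem_comap.1 (hle hd)
  have hgen : ∀ d ∈ D, ∀ e ∈ S.E, d * e = e * d := by
    intro d hd e he
    obtain ⟨f, hf, rfl | rfl⟩ := hmem d hd
    · exact S.comm _ hf.1 _ he.1
    · exact Commute.mul_left (S.comm f hf.1 e he.1) (hcomm e he).symm
  have hgenz : ∀ d ∈ D, d * z = z * d := by
    intro d hd
    obtain ⟨f, hf, rfl | rfl⟩ := hmem d hd
    · exact hcomm _ hf
    · exact Commute.mul_left (hcomm f hf) (Commute.refl z)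
  have h8 := S.small D hDn (fun d hd d' hd' => by
      obtain ⟨f, hf, rfl | rfl⟩ := hmem d' hd'
      · exact hgen d hd _ hf
      · exact Commute.mul_right (hgen d hd f hf) (hgenz d hd))
    (fun d hd => by
      obtain ⟨f, hf, rfl | rfl⟩ := hmem d hd
      · exact hf.2
      · rw [(show Commute z f from (hcomm f hf).symm).mul_mul_mul_comm, hf.2, hzz, one_mul])
  have hlt : Nat.card S.E < Nat.card D := by
    rw [← SetLike.coe_sort_coe S.E, ← SetLike.coe_sort_coe D, Nat.card_coe_set_eq,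
      Nat.card_coe_set_eq]
    exact Set.ncard_lt_ncard ⟨fun _ h => Subgroup.mem_sup_left h,
      fun h => hzE (h (Subgroup.mem_sup_right (Subgroup.mem_zpowers z)))⟩ (Set.toFinite _)
  have h4 : Nat.card S.E = 4 := by
    rcases S.card_E_cases with h | h | h
    · exfalso
      have := (Subgroup.card_eq_one.1 h)
      exact K.hr1 (Subgroup.mem_bot.1 (this ▸ K.hr))
    · exfalso
      have hsub : ({1, K.r, K.s} : Set P) ⊆ S.E := by
        intro x hx
        simp only [Set.mem_insert_iff, Set.mem_singleton_iff] at hx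
        rcases hx with rfl | rfl | rfl
        · exact one_mem _
        · exact K.hr
        · exact K.hs
      have hle := Set.ncard_le_ncard hsub (Set.toFinite _)
      rw [Set.ncard_insert_of_notMem (by simp [Ne.symm K.hr1, Ne.symm K.hs1]),
        Set.ncard_insert_of_notMem (by simp [Ne.symm K.hsr]), Set.ncard_singleton,
        ← Nat.card_coe_set_eq, SetLike.coe_sort_coe, h] at hle
      omega
    · exact h
  omega

/-- squares in `A` of the centraliser against an element acting injectively -/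
lemma app_four_gen {t : P} (ht : t ∈ S.P0) (hQ : Inj (K.col t)) {c : P} (hc : c ∈ S.C)
    (h : c * c ∈ S.A) : app (one2 + K.col t) (K.cd (c * c * (c * c))) = 0 := by
  have hc0 := S.C_le_P0 hc
  have h1 : t * t ∈ S.E := K.short_of_inj ht hQ
  have h2 : t * c * (t * c) ∈ S.E := K.short_of_inj (mul_mem ht hc0) (by
    rw [K.col_mul ht hc0, K.col_C hc, add_zero]; exact hQ)
  set w := t⁻¹ * c * t * c with hw
  have hwE : w ∈ S.E := by
    rw [show w = (t * t)⁻¹ * (t * c * (t * c)) by rw [hw]; group]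
    exact mul_mem (inv_mem h1) h2
  have hwc : Commute w c⁻¹ := Commute.inv_right (S.mem_P0.1 hc0 w hwE)
  have hconj : t⁻¹ * (c * c) * t = (c * c)⁻¹ := by
    calc t⁻¹ * (c * c) * t = w * c⁻¹ * (w * c⁻¹) := by rw [hw]; group
      _ = w * w * (c⁻¹ * c⁻¹) := hwc.symm.mul_mul_mul_comm _ _
      _ = (c * c)⁻¹ := by rw [hwE.2, one_mul, mul_inv_rev]
  have h3 : S.dl t (c * c) = c * c * (c * c) := by
    rw [Setup.dl, hconj, ← mul_inv_rev]
    exact inv_eq_of_mul_eq_one_right (Coord.sq_mem h).2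
  have h4 := K.app_col ht h
  rw [h3] at h4
  rw [app_add_left, app_one2, h4, add_self_V]

/-- a fixed nilpotent image with its unipotent partner -/
structure Nil (M : M2) : Prop where
  ne : M ≠ 0
  sq : comp M M = 0
  fixed : Fixed (S := S) M
  uni : ∃ t ∈ S.P0, K.col t = one2 + M

variable {K} {M : M2} (hM : K.Nil M)

include hM

lemma Nil.inj : Inj (one2 + M) := inj_one_add_nil M hM.sq

lemma Nil.not_short {y : P} (hy : y ∈ S.P0) (hcol : K.col y = M) : y * y ∉ S.E :=
  fun h => K.no_short hM.ne hM.inj hM.fixed hy hcol h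

lemma Nil.app_four {c : P} (hc : c ∈ S.C) (h : c * c ∈ S.A) :
    app M (K.cd (c * c * (c * c))) = 0 := by
  obtain ⟨t, ht, hcolt⟩ := hM.uni
  have h1 := K.app_four_gen ht (hcolt ▸ hM.inj) hc h
  rwa [hcolt, ← add_assoc, add_self_M, zero_add] at h1

/-- the elements with image in `{0, M}` -/
def Nil.Y (_h : K.Nil M) : Subgroup P where
  carrier := {x | x ∈ S.P0 ∧ (K.col x = 0 ∨ K.col x = M)}
  one_mem' := ⟨one_mem _, Or.inl (K.col_C (one_mem _))⟩
  mul_mem' {x y} hx hy := ⟨mul_mem hx.1 hy.1, by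
    rw [K.col_mul hx.1 hy.1]
    rcases hx.2 with e | e <;> rcases hy.2 with e' | e' <;> rw [e, e'] <;>
      simp [add_self_M]⟩
  inv_mem' {x} hx := ⟨inv_mem hx.1, by rw [K.col_inv hx.1]; exact hx.2⟩

lemma Nil.mem_Y {x : P} : x ∈ hM.Y ↔ x ∈ S.P0 ∧ (K.col x = 0 ∨ K.col x = M) := Iff.rfl

lemma Nil.Y_cases {x : P} (hx : x ∈ hM.Y) : x ∈ S.C ∨ K.col x = M := by
  obtain ⟨h0, h | h⟩ := hx
  · exact Or.inl ((K.isCol.ker x h0).1 h)
  · exact Or.inr h

lemma Nil.mem_A_of_short {x : P} (hx : x ∈ hM.Y) (h : x * x ∈ S.E) : x ∈ S.A := by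
  rcases hM.Y_cases hx with hC | hcol
  · exact S.alperin hC (by rw [pow_four_eq]; exact h.2)
  · exact absurd h (hM.not_short hx.1 hcol)

/-- if a long element exists then the centraliser is `A` -/
lemma Nil.C_le_A {z : P} (hz : z ∈ S.P0) (hcol : K.col z = M) (h2 : z * z ∈ S.A) : S.C ≤ S.A := by
  intro c0 hc0
  by_contra hc0A
  obtain ⟨c, hc, hcA, hcc⟩ := S.exists_top hc0 hc0A
  have hz4 : app M (K.cd (z * z * (z * z))) = 0 := by
    rw [← hcol, K.app_col hz h2, S.dl_one_iff.2 ((Commute.refl z).mul_left (Commute.refl z)), cd_one]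
  have hzne : K.cd (z * z * (z * z)) ≠ 0 := fun h =>
    hM.not_short hz hcol ⟨h2, (K.cd_eq_zero (Coord.sq_mem h2)).1 h⟩
  have hcne : K.cd (c * c * (c * c)) ≠ 0 := fun h =>
    hcA (S.alperin hc (by rw [pow_four_eq]; exact (K.cd_eq_zero (Coord.sq_mem hcc)).1 h))
  have heq : c * c * (c * c) = z * z * (z * z) := K.cd_inj (Coord.sq_mem hcc) (Coord.sq_mem h2)
    (ker_nil_unique M hM.ne hM.sq _ _ (hM.app_four hc hcc) hz4 hcne hzne)
  have hfix : S.dl z (c * c) = 1 := by
    rw [← K.cd_eq_zero (S.dl_mem hz hcc), ← K.app_col hz hcc, hcol, hM.app_four hc hcc]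
  set e := c⁻¹ * (z⁻¹ * c * z) with he
  have heE : e ∈ S.E := S.sq_eq_C hc (S.conjC hc z) (by
    have := S.dl_one_iff.1 hfix
    calc c * c = z⁻¹ * (z * (c * c)) := by group
      _ = z⁻¹ * (c * c * z) := by rw [this]
      _ = z⁻¹ * c * z * (z⁻¹ * c * z) := by group)
  have hec : e * c = c * e := S.mem_C.1 hc e heE.1
  have hsq : z * c * (z * c) = z * z * (c * c) * e := by
    calc z * c * (z * c) = z * z * (c * e * c) := by rw [he]; group
      _ = z * z * (c * c) * e := by rw [mul_assoc c e c, hec]; group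
  have hzc : z * c ∈ S.P0 := mul_mem hz (S.C_le_P0 hc)
  refine hM.not_short hzc (by rw [K.col_mul hz (S.C_le_P0 hc), K.col_C hc, add_zero, hcol]) ?_
  rw [hsq]
  refine ⟨mul_mem (mul_mem h2 hcc) heE.1, ?_⟩
  have c1 : Commute (z * z * (c * c)) e := S.comm _ (mul_mem h2 hcc) _ heE.1
  have c2 : Commute (z * z) (c * c) := S.comm _ h2 _ hcc
  rw [c1.symm.mul_mul_mul_comm, heE.2, mul_one, c2.symm.mul_mul_mul_comm, ← heq]
  exact (Coord.sq_mem hcc).2

/-- modulo `E` the elements of order at most four of `Y` are central -/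
lemma Nil.comm_mem {z w : P} (hz : z ∈ hM.Y) (hz4 : z * z * (z * z) ∈ S.E) (hw : w ∈ hM.Y) :
    z⁻¹ * (w⁻¹ * z * w) ∈ S.E := by
  have hz2 : z * z ∈ S.A := S.alperin (K.sq_C hz.1) (by rw [pow_four_eq]; exact hz4.2)
  rcases hM.Y_cases hz with hC | hcol
  · refine S.sq_eq_C hC (S.conjC hC w) ?_
    have hfix : S.dl w (z * z) = 1 := by
      rw [← K.cd_eq_zero (S.dl_mem hw.1 hz2), ← K.app_col hw.1 hz2]
      rcases hw.2 with e | e
      · rw [e, zero_app]
      · rw [e, hM.app_four hC hz2]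
    have := S.dl_one_iff.1 hfix
    calc z * z = w⁻¹ * (w * (z * z)) := by group
      _ = w⁻¹ * (z * z * w) := by rw [this]
      _ = w⁻¹ * z * w * (w⁻¹ * z * w) := by group
  · have hCA := hM.C_le_A hz.1 hcol hz2
    have key : ∀ a ∈ S.A, z⁻¹ * (a⁻¹ * z * a) ∈ S.E := fun a ha => by
      rw [show z⁻¹ * (a⁻¹ * z * a) = (S.dl z a)⁻¹ by simp only [Setup.dl]; group]
      exact inv_mem (S.dl_mem hz.1 ha)
    rcases hM.Y_cases hw with hwC | hwcol
    · exact key w (hCA hwC)
    · have ha := hCA ((K.col_eq_iff hz.1 hw.1).1 (hcol.trans hwcol.symm))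
      have := key _ ha
      rwa [show z⁻¹ * ((z⁻¹ * w)⁻¹ * z * (z⁻¹ * w)) = z⁻¹ * (w⁻¹ * z * w) by group] at this

/-- the index bound inside `Y` -/
lemma Nil.relIndex_le_Y {K' N0 : Subgroup P} (hK' : K' ≤ hM.Y) (hN0 : N0 ≤ K')
    (hN0C : N0 ≤ S.C) (hsq : ∀ x ∈ K', x * x ∈ N0) : N0.relIndex K' ≤ 4 := by
  have hnorm := Setup.normalizes hN0 hsq
  by_cases hEN : K' ⊓ S.E ≤ N0
  · set O : Subgroup K' := S.E.subgroupOf K' with hO
    set π := QuotientGroup.mk' O
    have hπ : Function.Surjective π := QuotientGroup.mk'_surjective O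
    haveI : (N0.subgroupOf K').Normal := Subgroup.normal_subgroupOf_of_le_normalizer hnorm
    haveI : ((N0.subgroupOf K').map π).Normal := Subgroup.Normal.map inferInstance π hπ
    have hq : Om4 (K' ⧸ O) := by
      intro q hq4 r
      obtain ⟨z, rfl⟩ := hπ q
      obtain ⟨w, rfl⟩ := hπ r
      have hz4 : (z : P) * z * (z * z) ∈ S.E := by
        have : z ^ 4 ∈ O := (QuotientGroup.eq_one_iff _).1 (by
          rw [← QuotientGroup.mk'_apply, map_pow]; exact hq4)
        rw [pow_four_eq] at this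
        exact Subgroup.mem_subgroupOf.1 this
      have hE := hM.comm_mem (hK' z.2) hz4 (hK' w.2)
      rw [← map_mul, ← map_mul]
      refine (QuotientGroup.eq.2 ?_)
      rw [hO, Subgroup.mem_subgroupOf]
      have := S.conjE (inv_mem hE) ((z : P) * w)⁻¹
      have h2 := S.conjE hE (w : P)⁻¹
      simp only [Subgroup.coe_mul, Subgroup.coe_inv]
      have h3 : ((z : P) * w)⁻¹ * (w * z) = ((z : P)⁻¹ * ((w : P)⁻¹ * z * w))⁻¹ := by group
      rw [h3]
      exact inv_mem hE
    have h1 := index_le _ (K' ⧸ O) rfl ((S.isP.to_subgroup K').to_quotient O) hq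
      ((N0.subgroupOf K').map π) (fun q => by
        obtain ⟨x, rfl⟩ := hπ q
        exact ⟨x * x, Subgroup.mem_subgroupOf.2 (hsq x.1 x.2), map_mul π x x⟩)
    rw [Subgroup.index_map_eq _ hπ (by
      rw [QuotientGroup.ker_mk']
      exact fun x hx => hEN ⟨x.2, hx⟩)] at h1
    refine h1.trans (le_trans ?_ S.card_E)
    rw [← Nat.card_coe_set_eq]
    have sq_mem : ∀ q : {q : K' ⧸ O | q * q = 1}, (q.1.out : P) * q.1.out ∈ S.E := fun q => by
      have : q.1.out * q.1.out ∈ O := (QuotientGroup.eq_one_iff _).1 (by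
        rw [QuotientGroup.mk_mul, QuotientGroup.out_eq']; exact q.2)
      exact this
    refine Nat.card_le_card_of_injective
      (fun q => (⟨(q.1.out : P) * q.1.out, sq_mem q⟩ : S.E)) ?_
    intro q r e
    have hqA := hM.mem_A_of_short (hK' q.1.out.2) (sq_mem q)
    have hrA := hM.mem_A_of_short (hK' r.1.out.2) (sq_mem r)
    have := S.sq_eq_C (S.A_le_C hqA) (S.A_le_C hrA) (congrArg Subtype.val e)
    apply Subtype.ext
    rw [← QuotientGroup.out_eq' q.1, ← QuotientGroup.out_eq' r.1]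
    exact QuotientGroup.eq.2 this
  · obtain ⟨e, ⟨heK, heE⟩, heN⟩ := SetLike.not_le_iff_exists.1 hEN
    obtain ⟨M0, hNM0, heM0, -, hidx⟩ := exists_index_two_avoid
      (N := N0.subgroupOf K') (fun x => Subgroup.mem_subgroupOf.2 (hsq x.1 x.2)) (o := ⟨e, heK⟩)
      (fun h => heN (Subgroup.mem_subgroupOf.1 h))
    set M' := M0.map K'.subtype with hM'
    have hM'K : M' ≤ K' := Subgroup.map_subtype_le M0
    have hM'2 : M'.relIndex K' = 2 := by
      rw [Subgroup.relIndex, hM', Subgroup.subgroupOf,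
        Subgroup.comap_map_eq_self_of_injective K'.subtype_injective, hidx]
    have hN0M' : N0 ≤ M' := fun x hx => ⟨⟨x, hN0 hx⟩, hNM0 (Subgroup.mem_subgroupOf.2 hx), rfl⟩
    have heM' : e ∉ M' := by
      rintro ⟨x, hx, he⟩
      exact heM0 (by rwa [show x = (⟨e, heK⟩ : K') from Subtype.ext he] at hx)
    rw [← Subgroup.relIndex_mul_relIndex _ _ _ hN0M' hM'K, hM'2]
    suffices h : N0.relIndex M' ≤ 2 by omega
    have hMY : M' ≤ hM.Y := hM'K.trans hK'
    set T := M' ⊓ S.C with hT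
    have hN0T : N0 ≤ T := le_inf hN0M' hN0C
    -- few involutions
    have hfew : Nat.card ↥(T ⊓ S.E) ≤ 2 := by
      have hlt : T ⊓ S.E < S.E := lt_of_le_of_ne inf_le_right fun h =>
        heM' (Subgroup.mem_inf.1 (Subgroup.mem_inf.1 (h.symm ▸ heE : e ∈ T ⊓ S.E)).1).1
      have hdvd := Subgroup.card_dvd_of_le hlt.le
      have hl : Nat.card ↥(T ⊓ S.E) < Nat.card S.E :=
        lt_of_le_of_ne (Nat.le_of_dvd Nat.card_pos hdvd)
          fun h => hlt.ne (Subgroup.eq_of_le_of_card_ge hlt.le h.ge)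
      rcases S.card_E_cases with h | h | h <;> rw [h] at hl hdvd
      · omega
      · omega
      · interval_cases (Nat.card ↥(T ⊓ S.E)) <;> omega
    have hnT : T ≤ Subgroup.normalizer (N0 : Set P) := inf_le_left.trans (hM'K.trans hnorm)
    have hsT : ∀ x ∈ T, x * x ∈ N0 := fun x hx => hsq x (hM'K hx.1)
    have hs : N0.relIndex T ≤ 2 := (S.relIndex_le_C inf_le_right hnT hsT le_rfl).trans hfew
    rw [← Subgroup.relIndex_mul_relIndex _ _ _ hN0T inf_le_left]
    by_cases hMC : M' ≤ S.C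
    · rw [show T.relIndex M' = 1 by rw [hT, inf_eq_left.2 hMC, Subgroup.relIndex_self]]
      omega
    obtain ⟨y, hy, hyC⟩ := SetLike.not_le_iff_exists.1 hMC
    have hcol : ∀ x ∈ M', x ∉ S.C → K.col x = M := fun x hx hxC =>
      (hM.Y_cases (hMY hx)).resolve_left hxC
    have ht : T.relIndex M' ≤ 2 := by
      rw [hT, Subgroup.inf_relIndex_left, Subgroup.relIndex, Subgroup.index]
      refine (Nat.card_le_card_of_surjective (fun b : Bool =>
        (QuotientGroup.mk (if b then ⟨y, hy⟩ else (1 : M')) : M' ⧸ S.C.subgroupOf M')) ?_).trans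
        (le_of_eq (by simp))
      intro q
      induction q using QuotientGroup.induction_on with
      | H z =>
        by_cases hz : (z : P) ∈ S.C
        · exact ⟨false, QuotientGroup.eq.2 (by simpa [Subgroup.mem_subgroupOf] using hz)⟩
        · exact ⟨true, QuotientGroup.eq.2 (by
            simpa [Subgroup.mem_subgroupOf] using (K.col_eq_iff (hMY hy).1 (hMY z.2).1).1
              ((hcol y hy hyC).trans (hcol z z.2 hz).symm))⟩
    by_cases hs2 : N0.relIndex T ≤ 1
    · exact le_trans (Nat.mul_le_mul hs2 ht) (by norm_num)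
    exfalso
    -- `T` is cyclic and `y²` is a square in `T`
    haveI : IsCyclic T := isCyclic_of_omega_le_two (S.isP.to_subgroup T)
      (fun a ha b => Subtype.ext (S.om4 a.2.2 (congrArg Subtype.val ha) b.2.2)) (by
        refine le_trans ?_ hfew
        rw [← SetLike.coe_sort_coe (T ⊓ S.E), Nat.card_coe_set_eq,
          ← Set.ncard_image_of_injective {x : T | x * x = 1} Subtype.val_injective]
        refine Set.ncard_le_ncard ?_ (Set.toFinite _)
        rintro x ⟨a, ha, rfl⟩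
        exact Subgroup.mem_inf.2 ⟨a.2, S.mem_E_of_C a.2.2 (congrArg Subtype.val ha)⟩)
    obtain ⟨g, hg⟩ := IsCyclic.exists_generator (α := T)
    obtain ⟨i, hi⟩ := Subgroup.mem_zpowers_iff.1 (hg ⟨y * y, hN0T (hsq y (hM'K hy))⟩)
    have hgN : (g : P) ∉ N0 := by
      intro hgN
      apply hs2
      rw [Subgroup.relIndex_eq_one.2 fun x hx => ?_]
      obtain ⟨k, hk⟩ := Subgroup.mem_zpowers_iff.1 (hg ⟨x, hx⟩)
      have hk' := congrArg Subtype.val hk
      simp only [Subgroup.coe_zpow] at hk'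
      rw [← hk']; exact zpow_mem hgN k
    have hi' := congrArg Subtype.val hi
    simp only [Subgroup.coe_zpow] at hi'
    rcases Int.even_or_odd i with ⟨k, rfl⟩ | ⟨k, rfl⟩
    · set d := (g : P) ^ k with hd
      have hdT : d ∈ T := zpow_mem g.2 k
      have hdd : d * d = y * y := by rw [hd, ← zpow_add]; exact hi'
      have hyP := (hMY hy).1
      set f := d⁻¹ * (y⁻¹ * d * y) with hf
      have hfE : f ∈ S.E := S.sq_eq_C hdT.2 (S.conjC hdT.2 y) (by
        rw [show y⁻¹ * d * y * (y⁻¹ * d * y) = y⁻¹ * (d * d) * y by group, hdd]; group)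
      refine hM.not_short (mul_mem hyP (inv_mem (S.C_le_P0 hdT.2)))
        (by rw [K.col_mul hyP (inv_mem (S.C_le_P0 hdT.2)), K.col_C (inv_mem hdT.2), add_zero,
              hcol y hy hyC]) ?_
      have hfd : Commute f d⁻¹ := Commute.inv_right (S.mem_C.1 hdT.2 f hfE.1)
      have : y * d⁻¹ * (y * d⁻¹) = f := by
        calc y * d⁻¹ * (y * d⁻¹) = y * y * (f⁻¹ * d⁻¹ * d⁻¹) := by rw [hf]; group
          _ = d * d * (f * d⁻¹ * d⁻¹) := by rw [hdd, S.E_inv hfE]
          _ = d * d * (d⁻¹ * f * d⁻¹) := by rw [hfd.eq]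
          _ = d * d * (d⁻¹ * (d⁻¹ * f)) := by rw [mul_assoc d⁻¹, hfd.eq]
          _ = f := by group
      rw [this]
      exact hfE
    · apply hgN
      have h2 : (g : P) ^ (2 * k) ∈ N0 := by
        rw [two_mul, zpow_add]; exact hsT _ (zpow_mem g.2 k)
      have h3 : (g : P) ^ (2 * k + 1) ∈ N0 := hi' ▸ hsq y (hM'K hy)
      have := mul_mem (inv_mem h2) h3
      rwa [← zpow_neg, ← zpow_add, show -(2 * k) + (2 * k + 1) = 1 by ring, zpow_one] at this

/-- `K / K ∩ N` has order at most two -/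
theorem Nil.relIndex_two {H N : Subgroup P} (hNH : N ≤ H) (hsq : ∀ x ∈ H, x * x ∈ N)
    {y : P} (hy : y ∈ H ⊓ S.P0) (hcol : K.col y = M) :
    (N ⊓ S.C).relIndex (H ⊓ S.C) ≤ 2 := by
  have hCY : H ⊓ S.C ≤ H ⊓ hM.Y :=
    inf_le_inf_left H fun x hx => ⟨S.C_le_P0 hx, Or.inl (K.col_C hx)⟩
  have h4 := hM.relIndex_le_Y (K' := H ⊓ hM.Y) inf_le_right
    ((inf_le_inf_right S.C hNH).trans hCY) inf_le_right
    (fun x hx => Subgroup.mem_inf.2 ⟨hsq x hx.1, K.sq_C hx.2.1⟩)
  rw [← Subgroup.relIndex_mul_relIndex _ _ _ (inf_le_inf_right S.C hNH) hCY] at h4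
  have h2 : 2 ≤ (H ⊓ S.C).relIndex (H ⊓ hM.Y) := by
    have h0 : (H ⊓ S.C).relIndex (H ⊓ hM.Y) ≠ 0 := Subgroup.index_ne_zero_of_finite
    have h1 : (H ⊓ S.C).relIndex (H ⊓ hM.Y) ≠ 1 := fun e => by
      have := (Subgroup.relIndex_eq_one.1 e) (show y ∈ H ⊓ hM.Y from ⟨hy.1, hy.2, Or.inr hcol⟩)
      exact hM.ne (hcol.symm.trans (K.col_C this.2))
    omega
  have := Nat.mul_le_mul_left ((N ⊓ S.C).relIndex (H ⊓ S.C)) h2
  omega

end Coord

end Cfsg.Lib.FourGen
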