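import Mathlib
import Cfsg.Agent.PGroups.FourGenerator.Keys

/-!
# Four-generator theorem: the bound when `|A : E| = |E| = 4`
-/

set_option autoImplicit false
set_option linter.style.haveILetI false
set_option linter.unusedSectionVars false

namespace Cfsg.Lib.FourGen

universe u

variable {P : Type u} [Group P] [Finite P]

namespace Coord

variable {S : Setup P} (K : Coord S)

/-- the image of the whole group -/
noncomputable def W : AddSubgroup M2 := K.isCol.img ⊤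

lemma mem_W {M : M2} : M ∈ K.W ↔ ∃ x ∈ S.P0, K.col x = M := by
  simp [W, Setup.IsCol.mem_img]

lemma img_le (H : Subgroup P) : K.isCol.img H ≤ K.W := by
  rintro M hM
  obtain ⟨x, hx, e⟩ := K.isCol.mem_img.1 hM
  exact K.mem_W.2 ⟨x, hx.2, e⟩

lemma no_fixfree_of_P0 (hP : ∀ g : P, g ∈ S.P0) {M : M2} (h1 : Inj M) (h2 : Inj (one2 + M)) :
    M ∉ K.W := by
  intro h
  obtain ⟨y, hy, rfl⟩ := K.mem_W.1 h
  refine K.no_short (fun h0 => ?_) h2 (Or.inr hP) hy rfl (K.short_of_inj hy h1)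
  rw [h0] at h1
  exact absurd (h1 (1, 0) (zero_app _)) (by decide)

lemma no_fixfree_of_nil1 (hn : nil1 ∈ K.W) {M : M2} (h1 : Inj M) (h2 : Inj (one2 + M)) :
    M ∉ K.W := by
  intro h
  obtain ⟨y, hy, rfl⟩ := K.mem_W.1 h
  obtain ⟨n, hn0, hncol⟩ := K.mem_W.1 hn
  have hCA : S.C ≤ S.A := by
    intro c0 hc0
    by_contra hc0A
    obtain ⟨c, hc, hcA, hcc⟩ := S.exists_top hc0 hc0A
    have := (K.cd_eq_zero (Coord.sq_mem hcc)).1 (h2 _ (K.app_four_gen hy h1 hc hcc))
    exact hcA (S.alperin hc (by rw [pow_four_eq]; exact this))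
  obtain ⟨hfix, -, -, hne, hsq0, -, -⟩ := phi_facts
  have hnE : n * n ∉ S.E := fun h =>
    K.no_short hne (inj_one_add_nil _ hsq0) (Or.inl hfix) hn0 hncol h
  have hyy : y * y ∈ S.E := K.short_of_inj hy h1
  have hnA : n * n ∈ S.A := hCA (K.sq_C hn0)
  set c := n⁻¹ * (y⁻¹ * n * y) with hc
  have hcA : c ∈ S.A := hCA
    ((K.col_eq_iff hn0 (S.conjP0 hn0 y)).1 (K.col_conj_P0 hn0 hy).symm)
  have hcE : c ∈ S.E := by
    have h3 : c * (y⁻¹ * c * y) = 1 := by
      have h4 : (y * y)⁻¹ * n * (y * y) = n := by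
        rw [mul_assoc, ← S.mem_P0.1 hn0 _ hyy, inv_mul_cancel_left]
      calc c * (y⁻¹ * c * y) = n⁻¹ * ((y * y)⁻¹ * n * (y * y)) := by rw [hc]; group
        _ = 1 := by rw [h4, inv_mul_cancel]
    have h5 : S.dl y c = c * c := by
      rw [Setup.dl, eq_inv_of_mul_eq_one_right h3, ← mul_inv_rev]
      exact inv_eq_of_mul_eq_one_right (Coord.sq_mem hcA).2
    have h6 := K.app_col hy hcA
    rw [h5] at h6
    refine ⟨hcA, (K.cd_eq_zero (Coord.sq_mem hcA)).1 (h2 _ ?_)⟩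
    rw [app_add_left, app_one2, h6, add_self_V]
  set z := y * n with hz
  have hz0 : z ∈ S.P0 := mul_mem hy hn0
  have hzz : z * z = y * y * (n * n) * c := by
    have h3 : c * n = n * c := S.mem_P0.1 hn0 c hcE
    calc z * z = y * y * (n * (c * n)) := by rw [hz, hc]; group
      _ = y * y * (n * n) * c := by rw [h3]; group
  have hzA : z * z ∈ S.A := hCA (K.sq_C hz0)
  have h4 : z * z * (z * z) = n * n * (n * n) := by
    have c1 : Commute c (y * y * (n * n)) := S.comm _ hcA _ (mul_mem hyy.1 hnA)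
    have c2 : Commute (n * n) (y * y) := S.comm _ hnA _ hyy.1
    rw [hzz, c1.mul_mul_mul_comm, hcE.2, mul_one, c2.mul_mul_mul_comm, hyy.2, one_mul]
  have hz4 := K.app_col hz0 hzA
  rw [S.dl_one_iff.2 ((Commute.refl z).mul_left (Commute.refl z)), cd_one, h4,
    K.col_mul hy hn0, app_add_left] at hz4
  have hn4 := K.app_col hn0 hnA
  rw [S.dl_one_iff.2 ((Commute.refl n).mul_left (Commute.refl n)), cd_one] at hn4
  rw [hn4, add_zero] at hz4
  exact hnE ⟨hnA, (K.cd_eq_zero (Coord.sq_mem hnA)).1 (h1 _ hz4)⟩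

/-- subgroups of size above four avoiding the fixed point free matrices -/
lemma big_sub {V : AddSubgroup M2} (h5 : 5 ≤ Nat.card V) (ho : om2 ∉ V)
    (ho' : om2 + one2 ∉ V) : Nat.card V = 8 ∧ one2 ∈ V ∧ V.index = 2 := by
  have h16 : Nat.card M2 = 16 := by rw [Nat.card_eq_fintype_card]; rfl
  have hdvd := AddSubgroup.card_addSubgroup_dvd_card V
  have hmul := V.card_mul_index
  rw [h16] at hdvd hmul
  have hle := Nat.le_of_dvd (by norm_num) hdvd
  have hne : Nat.card V ≠ 16 := fun h => ho (by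
    rw [AddSubgroup.eq_top_of_card_eq V (h.trans h16.symm)]; exact AddSubgroup.mem_top _)
  have h8 : Nat.card V = 8 := by interval_cases (Nat.card V) <;> omega
  rw [h8] at hmul
  have hidx : V.index = 2 := by omega
  refine ⟨h8, ?_, hidx⟩
  have := (AddSubgroup.add_mem_iff_of_index_two hidx (a := om2) (b := om2 + one2)).2
    (iff_of_false ho ho')
  rwa [← add_assoc, add_self_M, zero_add] at this

lemma phi_W {g : P} (hg : g ∉ S.P0) {M : M2} (h : M ∈ K.W) : phi M ∈ K.W := by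
  obtain ⟨x, hx, rfl⟩ := K.mem_W.1 h
  exact K.mem_W.2 ⟨_, S.conjP0 hx g, K.col_conj_not hx hg⟩

lemma nil1_mem {g : P} (hg : g ∉ S.P0) (h5 : 5 ≤ Nat.card K.W) : nil1 ∈ K.W := by
  have h16 : Nat.card M2 = 16 := by rw [Nat.card_eq_fintype_card]; rfl
  have hdvd := AddSubgroup.card_addSubgroup_dvd_card K.W
  have hmul := K.W.card_mul_index
  rw [h16] at hdvd hmul
  have hle := Nat.le_of_dvd (by norm_num) hdvd
  have : Nat.card K.W = 8 ∨ Nat.card K.W = 16 := by interval_cases (Nat.card K.W) <;> omega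
  rcases this with h | h
  · rw [h] at hmul
    have hidx : K.W.index = 2 := by omega
    obtain ⟨-, -, -, -, -, -, heq⟩ := phi_facts
    rw [← heq, AddSubgroup.add_mem_iff_of_index_two hidx]
    refine ⟨fun h => ?_, K.phi_W hg⟩
    have := K.phi_W hg h
    rwa [phi_phi] at this
  · rw [AddSubgroup.eq_top_of_card_eq K.W (h.trans h16.symm)]; exact AddSubgroup.mem_top _

lemma exists_nil {H : Subgroup P} (h5 : 5 ≤ Nat.card (K.isCol.img H)) :
    Nat.card (K.isCol.img H) = 8 ∧ ∃ M ∈ K.isCol.img H, K.Nil M := by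
  have hle := K.img_le H
  have h5W : 5 ≤ Nat.card K.W := h5.trans (AddSubgroup.card_le_of_le hle)
  have hex : ∀ M, Inj M → Inj (one2 + M) → M ∉ K.W := by
    by_cases hP : ∀ g : P, g ∈ S.P0
    · exact fun M h1 h2 => K.no_fixfree_of_P0 hP h1 h2
    · push Not at hP
      obtain ⟨g, hg⟩ := hP
      exact fun M h1 h2 => K.no_fixfree_of_nil1 (K.nil1_mem hg h5W) h1 h2
  obtain ⟨i1, i2, i3, i4⟩ := inj_om
  have ho : om2 ∉ K.W := hex _ i1 i2
  have ho' : om2 + one2 ∉ K.W := hex _ i3 i4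
  obtain ⟨h8, h1V, hidx⟩ := big_sub h5 (fun h => ho (hle h)) (fun h => ho' (hle h))
  refine ⟨h8, ?_⟩
  have hWV : K.isCol.img H = K.W := by
    refine le_antisymm hle fun M hM => ?_
    by_contra hMV
    obtain ⟨hW8, -, -⟩ := big_sub h5W ho ho'
    have := AddSubgroup.eq_of_le_of_card_ge hle (by omega)
    exact hMV (this ▸ hM)
  have mk : ∀ M, M ∈ K.isCol.img H → M ≠ 0 → comp M M = 0 → Fixed (S := S) M →
      ∃ M ∈ K.isCol.img H, K.Nil M := fun M hM hne hsq hfix =>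
    ⟨M, hM, hne, hsq, hfix, K.mem_W.1 (hWV ▸ add_mem h1V hM)⟩
  by_cases hP : ∀ g : P, g ∈ S.P0
  · obtain ⟨⟨a1, a2⟩, ⟨b1, b2⟩, ⟨c1, c2⟩, hsum⟩ := nil_pick
    by_cases hA : nil1 ∈ K.isCol.img H
    · exact mk _ hA a1 a2 (Or.inr hP)
    by_cases hB : (((0, 1), (0, 0)) : M2) ∈ K.isCol.img H
    · exact mk _ hB b1 b2 (Or.inr hP)
    refine mk _ ?_ c1 c2 (Or.inr hP)
    rw [← hsum]
    exact add_mem ((AddSubgroup.add_mem_iff_of_index_two hidx).2 (iff_of_false hA hB)) h1V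
  · push Not at hP
    obtain ⟨g, hg⟩ := hP
    obtain ⟨f1, -, -, f4, f5, -, -⟩ := phi_facts
    exact mk _ (hWV ▸ K.nil1_mem hg h5W) f4 f5 (Or.inl f1)

include K in
/-- the bound -/
theorem bound {H N : Subgroup P} (hNH : N ≤ H) (hsq : ∀ x ∈ H, x * x ∈ N) :
    N.relIndex H ≤ 16 := by
  classical
  have hc := K.isCol.count hNH (N := N)
  have hk := S.relIndex_C_le hNH hsq
  obtain ⟨hu, hu1⟩ := S.relIndex_P0_le H
  have hn : (N ⊓ S.C).relIndex N ≠ 0 := Subgroup.index_ne_zero_of_finite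
  have hn1 := Nat.one_le_iff_ne_zero.2 hn
  by_cases hHP : H ≤ S.P0
  · rw [hu1 hHP, mul_one] at hc
    by_cases hw : Nat.card (K.isCol.img H) ≤ 4
    · nlinarith [Nat.mul_le_mul hk hw]
    obtain ⟨h8, M, hMimg, hM⟩ := K.exists_nil (H := H) (by omega)
    obtain ⟨y, hy, hcol⟩ := K.isCol.mem_img.1 hMimg
    have hk2 := hM.relIndex_two hNH hsq hy hcol
    nlinarith [Nat.mul_le_mul hk2 h8.le]
  by_cases hw2 : Nat.card (K.isCol.img H) ≤ 2
  · nlinarith [Nat.mul_le_mul hk (Nat.mul_le_mul hw2 hu)]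
  obtain ⟨h, hh, hh0⟩ := SetLike.not_le_iff_exists.1 hHP
  by_cases hmv : ∀ M ∈ K.isCol.img H, phi M = M
  · -- the image is the fixed group
    set F := (Finset.univ : Finset M2).filter fun M => phi M = M with hF
    have hsub : (K.isCol.img H : Set M2) ⊆ (F : Set M2) := fun M hM => by
      simp [hF, hmv M hM]
    have hdvd := AddSubgroup.card_addSubgroup_dvd_card (K.isCol.img H)
    have hle := Set.ncard_le_ncard hsub (Set.toFinite _)
    rw [Set.ncard_coe_finset, phi_fix_card, ← Nat.card_coe_set_eq, SetLike.coe_sort_coe] at hle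
    have h16 : Nat.card M2 = 16 := by rw [Nat.card_eq_fintype_card]; rfl
    rw [h16] at hdvd
    have h4 : Nat.card (K.isCol.img H) = 4 := by
      interval_cases (Nat.card (K.isCol.img H)) <;> omega
    have heq : (K.isCol.img H : Set M2) = (F : Set M2) :=
      Set.eq_of_subset_of_ncard_le hsub
        (by rw [Set.ncard_coe_finset, phi_fix_card, ← Nat.card_coe_set_eq, SetLike.coe_sort_coe, h4])
        (Set.toFinite _)
    obtain ⟨f1, f2, f3, f4, f5, -, -⟩ := phi_facts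
    have hn1' : nil1 ∈ K.isCol.img H := by
      rw [← SetLike.mem_coe, heq]; simp [hF, f1]
    have hu1' : uni1 ∈ K.isCol.img H := by
      rw [← SetLike.mem_coe, heq]; simp [hF, f2]
    have hM : K.Nil nil1 := ⟨f4, f5, Or.inl f1, K.mem_W.1 (f3 ▸ K.img_le H hu1')⟩
    obtain ⟨y, hy, hcol⟩ := K.isCol.mem_img.1 hn1'
    have hk2 := hM.relIndex_two hNH hsq hy hcol
    nlinarith [Nat.mul_le_mul hk2 (Nat.mul_le_mul h4.le hu)]
  push Not at hmv
  obtain ⟨M', hM', hne⟩ := hmv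
  obtain ⟨x, hx, hxM⟩ := K.isCol.mem_img.1 hM'
  have hmoved : K.col (h⁻¹ * x * h) ≠ K.col x := by
    rw [K.col_conj_not (Subgroup.mem_inf.1 hx).2 hh0, hxM]; exact hne
  have h2 := K.isCol.moved hsq hx hh hmoved
  by_cases hw : Nat.card (K.isCol.img H) ≤ 4
  · nlinarith [Nat.mul_le_mul hk (Nat.mul_le_mul hw hu)]
  obtain ⟨h8, M, hMimg, hM⟩ := K.exists_nil (H := H) (by omega)
  obtain ⟨y, hy, hcol⟩ := K.isCol.mem_img.1 hMimg
  have hk2 := hM.relIndex_two hNH hsq hy hcol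
  nlinarith [Nat.mul_le_mul hk2 (Nat.mul_le_mul h8.le hu)]

end Coord

end Cfsg.Lib.FourGen
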