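import Mathlib
import Cfsg.Agent.PGroups.FourGenerator.Alperin

/-!
# Four-generator theorem: the case in which the squares of `A` form a group of order at most two
-/

set_option autoImplicit false
set_option linter.style.haveILetI false
set_option linter.unusedSectionVars false

namespace Cfsg.Lib.FourGen

universe u

namespace Setup

variable {P : Type u} [Group P] [Finite P] (S : Setup P)

instance E_commGroup : CommGroup S.E :=
  { (inferInstance : Group S.E) with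
    mul_comm := fun a b => Subtype.ext (S.comm a.1 a.2.1 b.1 b.2.1) }

open scoped Classical in
/-- the coordinate map of the small case -/
noncomputable def fSmall (a₀ : P) (ha : a₀ ∈ S.A) (x : P) : Additive S.E :=
  if hx : x ∈ S.P0 then Additive.ofMul ⟨S.dl x a₀, S.dl_mem hx ha⟩ else 0

lemma exists_a0 (himg : ∀ a ∈ S.A, ∀ b ∈ S.A, a * a ≠ 1 → b * b ≠ 1 → a * a = b * b) :
    ∃ a₀ ∈ S.A, ∀ a ∈ S.A, a ∈ S.E ∨ a₀⁻¹ * a ∈ S.E := by
  by_cases hall : ∀ a ∈ S.A, a * a = 1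
  · exact ⟨1, one_mem _, fun a ha => Or.inl ⟨ha, hall a ha⟩⟩
  push Not at hall
  obtain ⟨a₀, h0, h01⟩ := hall
  refine ⟨a₀, h0, fun a ha => ?_⟩
  by_cases h : a * a = 1
  · exact Or.inl ⟨ha, h⟩
  refine Or.inr ⟨mul_mem (inv_mem h0) ha, ?_⟩
  have hc := S.comm _ (inv_mem h0) a ha
  calc a₀⁻¹ * a * (a₀⁻¹ * a) = a₀⁻¹ * (a * a₀⁻¹) * a := by group
    _ = a₀⁻¹ * (a₀⁻¹ * a) * a := by rw [hc]
    _ = (a₀ * a₀)⁻¹ * (a * a) := by group
    _ = 1 := by rw [himg a₀ h0 a ha h01 h, inv_mul_cancel]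

lemma isCol_small {a₀ : P} (h0 : a₀ ∈ S.A) (hA : ∀ a ∈ S.A, a ∈ S.E ∨ a₀⁻¹ * a ∈ S.E) :
    S.IsCol (S.fSmall a₀ h0) := by
  constructor
  · intro x hx y hy
    simp only [fSmall, hx, hy, mul_mem hx hy, dite_true]
    rw [← ofMul_mul]
    exact congrArg Additive.ofMul (Subtype.ext (S.dl_mul_left hx hy h0))
  · intro x hx
    simp only [fSmall, hx, dite_true]
    rw [ofMul_eq_zero, ← Subtype.coe_inj, S.mem_C_iff]
    refine ⟨fun h a ha => ?_, fun h => h a₀ h0⟩
    rcases hA a ha with he | he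
    · exact S.dl_E hx he
    · have : S.dl x (a₀ * (a₀⁻¹ * a)) = 1 := by
        rw [S.dl_mul_right h0 he.1, S.dl_E hx he, show S.dl x a₀ = 1 from h, one_mul]
      rwa [mul_inv_cancel_left] at this

/-- the bound in the small case -/
theorem bound_small (himg : ∀ a ∈ S.A, ∀ b ∈ S.A, a * a ≠ 1 → b * b ≠ 1 → a * a = b * b)
    {H N : Subgroup P} (hNH : N ≤ H) (hsq : ∀ x ∈ H, x * x ∈ N) : N.relIndex H ≤ 16 := by
  classical
  obtain ⟨a₀, h0, hA⟩ := S.exists_a0 himg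
  have hf := S.isCol_small h0 hA
  have hc := hf.count hNH (N := N)
  have hk := S.relIndex_C_le hNH hsq
  have hw : Nat.card (hf.img H) ≤ 4 := (Nat.card_le_card_of_injective (Subtype.val : hf.img H → Additive S.E)
    Subtype.val_injective).trans S.card_E
  obtain ⟨hu, hu1⟩ := S.relIndex_P0_le H
  have hn : (N ⊓ S.C).relIndex N ≠ 0 := Subgroup.index_ne_zero_of_finite
  by_cases hHP : H ≤ S.P0
  · rw [hu1 hHP] at hc
    nlinarith [Nat.one_le_iff_ne_zero.2 hn, Nat.mul_le_mul hk hw]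
  by_cases hw2 : Nat.card (hf.img H) ≤ 2
  · nlinarith [Nat.one_le_iff_ne_zero.2 hn, Nat.mul_le_mul hk (Nat.mul_le_mul hw2 hu)]
  -- the image is everything
  have htop : hf.img H = ⊤ := by
    refine AddSubgroup.eq_top_of_card_eq _ ?_
    have h1 := AddSubgroup.card_addSubgroup_dvd_card (hf.img H)
    have h2 : Nat.card (Additive S.E) = Nat.card S.E := rfl
    rcases S.card_E_cases with h | h | h <;> rw [h] at h2 <;> rw [h2] at h1 ⊢ <;>
      have := Nat.le_of_dvd (by norm_num) h1 <;> interval_cases (Nat.card (hf.img H)) <;>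
      first | rfl | omega
  obtain ⟨h, hh, hh0⟩ := SetLike.not_le_iff_exists.1 hHP
  rw [S.mem_P0] at hh0
  push Not at hh0
  obtain ⟨e, he, hne⟩ := hh0
  obtain ⟨x, hx, hxe⟩ := hf.mem_img.1 (show Additive.ofMul (⟨e, he⟩ : S.E) ∈ hf.img H by
    rw [htop]; exact AddSubgroup.mem_top _)
  have hx2 : x ∈ S.P0 := (Subgroup.mem_inf.1 hx).2
  have hxc : h⁻¹ * x * h ∈ S.P0 := S.conjP0 hx2 h
  simp only [fSmall, hx2, dite_true, EmbeddingLike.apply_eq_iff_eq, Subtype.mk.injEq] at hxe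
  have ha' : h * a₀ * h⁻¹ ∈ S.A := S.normal.conj_mem a₀ h0 h
  have hδ : S.dl x (h * a₀ * h⁻¹) = e := by
    rcases hA _ ha' with h1 | h1
    · exfalso
      have h2 : a₀ ∈ S.E := by
        have := S.conjE h1 h
        rwa [show h⁻¹ * (h * a₀ * h⁻¹) * h = a₀ by group] at this
      rw [S.dl_E hx.2 h2] at hxe
      rw [← hxe, one_mul, mul_one] at hne
      exact hne rfl
    · have h3 : S.dl x (a₀ * (a₀⁻¹ * (h * a₀ * h⁻¹))) = e := by
        rw [S.dl_mul_right h0 h1.1, S.dl_E hx.2 h1, mul_one, hxe]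
      rwa [mul_inv_cancel_left] at h3
  have hmoved : (S.fSmall a₀ h0 (h⁻¹ * x * h)) ≠ S.fSmall a₀ h0 x := by
    simp only [fSmall, hx2, hxc, dite_true, ne_eq, EmbeddingLike.apply_eq_iff_eq,
      Subtype.mk.injEq]
    have := S.dl_conj x (h * a₀ * h⁻¹) h
    rw [show h⁻¹ * (h * a₀ * h⁻¹) * h = a₀ by group, hδ] at this
    rw [this, hxe, mul_assoc, inv_mul_eq_iff_eq_mul]
    exact hne
  have := hf.moved hsq hx hh hmoved
  nlinarith [Nat.mul_le_mul hk (Nat.mul_le_mul hw hu)]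

end Setup

end Cfsg.Lib.FourGen
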