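import Mathlib
import Cfsg.Agent.PGroups.FourGenerator.Small
import Cfsg.Agent.PGroups.FourGenerator.Full

/-!
# The four-generator theorem
-/

set_option autoImplicit false
set_option linter.style.haveILetI false
set_option linter.unusedSectionVars false

namespace Cfsg.Lib.FourGen

universe u

variable {P : Type u} [Group P] [Finite P]

namespace Setup

variable (S : Setup P)

/-- the squares of `A` -/
def sqA : Subgroup P where
  carrier := {e | ∃ a ∈ S.A, a * a = e}
  one_mem' := ⟨1, one_mem _, mul_one 1⟩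
  mul_mem' := by
    rintro _ _ ⟨a, ha, rfl⟩ ⟨b, hb, rfl⟩
    exact ⟨a * b, mul_mem ha hb, Commute.mul_mul_mul_comm (S.comm b hb a ha) a b⟩
  inv_mem' := by
    rintro _ ⟨a, ha, rfl⟩
    exact ⟨a⁻¹, inv_mem ha, (mul_inv_rev a a).symm⟩

lemma sqA_le : S.sqA ≤ S.E := by
  rintro _ ⟨a, ha, rfl⟩
  exact Coord.sq_mem ha

theorem bound (S : Setup P) {H N : Subgroup P} (hNH : N ≤ H) (hsq : ∀ x ∈ H, x * x ∈ N) :
    N.relIndex H ≤ 16 := by
  by_cases hfull : Nat.card S.E = 4 ∧ S.E ≤ S.sqA
  · obtain ⟨K⟩ := S.exists_coord hfull.1 fun e he => hfull.2 he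
    exact K.bound hNH hsq
  refine S.bound_small (fun a ha b hb ha1 hb1 => ?_) hNH hsq
  by_contra hne
  apply hfull
  have hsub : ({1, a * a, b * b} : Set P) ⊆ S.sqA := by
    intro x hx
    simp only [Set.mem_insert_iff, Set.mem_singleton_iff] at hx
    rcases hx with rfl | rfl | rfl
    · exact one_mem _
    · exact ⟨a, ha, rfl⟩
    · exact ⟨b, hb, rfl⟩
  have hle := Set.ncard_le_ncard hsub (Set.toFinite _)
  rw [Set.ncard_insert_of_notMem (by simp [Ne.symm ha1, Ne.symm hb1]),
    Set.ncard_insert_of_notMem (by simp [hne]), Set.ncard_singleton,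
    ← Nat.card_coe_set_eq, SetLike.coe_sort_coe] at hle
  have hdvd := Subgroup.card_dvd_of_le S.sqA_le
  have hle' := Nat.le_of_dvd Nat.card_pos hdvd
  have h4 : Nat.card S.E = 4 := by rcases S.card_E_cases with h | h | h <;> omega
  refine ⟨h4, ?_⟩
  rw [h4] at hdvd hle'
  have hs4 : Nat.card S.sqA = 4 := by interval_cases (Nat.card S.sqA) <;> omega
  exact (Subgroup.eq_of_le_of_card_ge S.sqA_le (by rw [h4, hs4])).ge

end Setup

end Cfsg.Lib.FourGen
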